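import Mathlib

/-!
# Commutators of the terms of a uniform filtration

If `W` is a filtration with `W (i+1)` generated by the `p`-th powers of `W i` and
`⁅W i, W j⁆ ≤ W (i+j)`, then `⁅W i, W i⁆ ^ (p^2) ≤ ⁅W (i+1), W (i+1)⁆`.
-/

set_option autoImplicit false

namespace CfsgLib.Alperin

open scoped commutatorElement

variable {Q : Type*} [Group Q] {p : ℕ}

/-- A filtration as in a uniform pro-`p` group. -/
structure Filt (W : ℕ → Subgroup Q) (p a : ℕ) : Prop where
  two_le : 2 ≤ a
  normal : ∀ i, (W i).Normal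
  anti : Antitone W
  comm : ∀ i j, a ≤ i → a ≤ j → ⁅W i, W j⁆ ≤ W (i + j)
  pow : ∀ i, a ≤ i → W (i + 1) = Subgroup.closure ((fun x => x ^ p) '' (W i : Set Q))

theorem commute_map {H : Type*} [Group H] (f : Q →* H) {A B : Subgroup Q} (h : ⁅A, B⁆ ≤ f.ker)
    {x y : Q} (hx : x ∈ A) (hy : y ∈ B) : Commute (f x) (f y) := by
  have h1 : f ⁅x, y⁆ = 1 := h (Subgroup.commutator_mem_commutator hx hy)
  rw [map_commutatorElement] at h1
  exact commutatorElement_eq_one_iff_commute.1 h1

variable {W : ℕ → Subgroup Q} {a : ℕ}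

theorem pow_mem_comm_succ_left (h : Filt W p a) {i : ℕ} (hi : a ≤ i) {x : Q}
    (hx : x ∈ ⁅W i, W i⁆) : x ^ p ∈ ⁅W (i + 1), W i⁆ := by
  have := h.normal (i + 1)
  have := h.normal i
  set M := ⁅W (i + 1), W i⁆
  set f := QuotientGroup.mk' M
  have hker : ⁅W (i + 1), W i⁆ ≤ f.ker := le_of_eq (QuotientGroup.ker_mk' M).symm
  have hsub : ⁅W i, W i⁆ ≤ W (i + 1) :=
    (h.comm i i hi hi).trans (h.anti (by have := h.two_le; omega))
  have hWle : W (i + 1) ≤ W i := h.anti (Nat.le_succ i)
  suffices f x ^ p = 1 by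
    rw [← map_pow] at this
    exact (QuotientGroup.eq_one_iff _).1 this
  rw [Subgroup.commutator_def] at hx
  induction hx using Subgroup.closure_induction with
  | mem z hz =>
    obtain ⟨u, hu, v, hv, rfl⟩ := hz
    have hc : ⁅u, v⁆ ∈ W (i + 1) := hsub (Subgroup.commutator_mem_commutator hu hv)
    have hcu : Commute (f u⁻¹) (f ⁅u, v⁆) :=
      (commute_map f hker hc (inv_mem hu)).symm
    have e1 : f v * f u⁻¹ * (f v)⁻¹ = f u⁻¹ * f ⁅u, v⁆ := by
      simp only [commutatorElement_def, map_mul, map_inv]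
      group
    have hup : (u⁻¹) ^ p ∈ W (i + 1) := by
      rw [h.pow i hi]
      exact Subgroup.subset_closure ⟨u⁻¹, inv_mem hu, rfl⟩
    have hvu : Commute (f v) (f u⁻¹ ^ p) := by
      rw [← map_pow]
      exact (commute_map f hker hup hv).symm
    have e2 := congrArg (· ^ p) e1
    simp only [conj_pow, hcu.mul_pow] at e2
    rw [hvu.eq, mul_inv_cancel_right] at e2
    exact left_eq_mul.1 e2
  | one => simp
  | mul y z hy hz hy1 hz1 =>
    have hy' : y ∈ ⁅W i, W i⁆ := by rwa [Subgroup.commutator_def]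
    have hz' : z ∈ ⁅W i, W i⁆ := by rwa [Subgroup.commutator_def]
    rw [map_mul, (commute_map f hker (hsub hy') (hWle (hsub hz'))).mul_pow, hy1, hz1, one_mul]
  | inv y _ hy => rw [map_inv, inv_pow, hy, inv_one]

theorem exists_pow_of_mem (h : Filt W p a) {i : ℕ} (hi : a ≤ i) {H : Type*} [Group H] (f : Q →* H)
    (hab : ⁅W i, W i⁆ ≤ f.ker) :
    ∀ (j : ℕ) (z : Q), z ∈ W (i + j) → ∃ w ∈ W i, f z = f w ^ p ^ j
  | 0, z, hz => ⟨z, hz, by simp⟩
  | j + 1, z, hz => by
    rw [← add_assoc, h.pow (i + j) (by omega)] at hz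
    induction hz using Subgroup.closure_induction with
    | mem u hu =>
      obtain ⟨v, hv, rfl⟩ := hu
      obtain ⟨w, hw, e⟩ := exists_pow_of_mem h hi f hab j v hv
      exact ⟨w, hw, by rw [map_pow, e, ← pow_mul, pow_succ]⟩
    | one => exact ⟨1, one_mem _, by simp⟩
    | mul u v _ _ hu hv =>
      obtain ⟨w, hw, e⟩ := hu
      obtain ⟨w', hw', e'⟩ := hv
      exact ⟨w * w', mul_mem hw hw', by
        rw [map_mul, map_mul, e, e', (commute_map f hab hw hw').mul_pow]⟩
    | inv u _ hu =>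
      obtain ⟨w, hw, e⟩ := hu
      exact ⟨w⁻¹, inv_mem hw, by rw [map_inv, map_inv, e, inv_pow]⟩

theorem pow_mem_comm_succ_succ [Fact p.Prime] [Finite Q] (hQ : IsPGroup p Q) (h : Filt W p a) {i : ℕ}
    (hi : a ≤ i) {x : Q} (hx : x ∈ ⁅W (i + 1), W i⁆) : x ^ p ∈ ⁅W (i + 1), W (i + 1)⁆ := by
  have := h.normal (i + 1)
  have := h.normal i
  set M := ⁅W (i + 1), W (i + 1)⁆
  set f := QuotientGroup.mk' M
  have hker : ⁅W (i + 1), W (i + 1)⁆ ≤ f.ker := le_of_eq (QuotientGroup.ker_mk' M).symm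
  set A := (W (i + 1)).map f
  let _ : CommGroup A := { (inferInstance : Group A) with
    mul_comm := fun ⟨_, u, hu, hu'⟩ ⟨_, v, hv, hv'⟩ => Subtype.ext (by
      subst hu' hv'
      exact commute_map f hker hu hv) }
  have hAn : A.Normal := (h.normal (i + 1)).map f (QuotientGroup.mk'_surjective M)
  have hsub : ⁅W (i + 1), W i⁆ ≤ W (i + 1) := by
    refine (h.comm (i + 1) i (by omega) hi).trans (h.anti (by omega))
  suffices f x ^ p = 1 by
    rw [← map_pow] at this
    exact (QuotientGroup.eq_one_iff _).1 this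
  rw [Subgroup.commutator_def] at hx
  induction hx using Subgroup.closure_induction with
  | one => simp
  | inv y _ hy => rw [map_inv, inv_pow, hy, inv_one]
  | mul y z hy hz hy1 hz1 =>
    have hy' : y ∈ ⁅W (i + 1), W i⁆ := by rwa [Subgroup.commutator_def]
    have hz' : z ∈ ⁅W (i + 1), W i⁆ := by rwa [Subgroup.commutator_def]
    rw [map_mul, (commute_map f hker (hsub hy') (hsub hz')).mul_pow, hy1, hz1, one_mul]
  | mem z hz =>
    obtain ⟨u, hu, g, hg, rfl⟩ := hz
    let θ : AddMonoid.End (Additive A) := MonoidHom.toAdditive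
      (({ toFun := fun c => ⟨f g * c.1 * (f g)⁻¹, hAn.conj_mem _ c.2 _⟩
          map_one' := Subtype.ext (by simp)
          map_mul' := fun c d => Subtype.ext (by simp) } : A →* A))
    have hθn : ∀ (n : ℕ) (c : Additive A),
        ((θ ^ n) c).toMul.1 = f g ^ n * c.toMul.1 * (f g ^ n)⁻¹ := by
      intro n
      induction n with
      | zero => intro c; rw [pow_zero, pow_zero]; simp [AddMonoid.End.coe_one]
      | succ n ihn =>
        intro c
        rw [pow_succ', pow_succ']
        show f g * ((θ ^ n) c).toMul.1 * (f g)⁻¹ = _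
        rw [ihn]
        group
    have hθp : θ ^ p = 1 := by
      refine AddMonoidHom.ext fun c => Additive.toMul.injective (Subtype.ext ?_)
      refine (hθn p c).trans ?_
      obtain ⟨w, hw, e⟩ := c.toMul.2
      show f g ^ p * c.toMul.1 * (f g ^ p)⁻¹ = c.toMul.1
      have hgp : g ^ p ∈ W (i + 1) := by
        rw [h.pow i hi]
        exact Subgroup.subset_closure ⟨g, hg, rfl⟩
      rw [← e, ← map_pow, (commute_map f hker hgp hw).eq, mul_inv_cancel_right]
    set δ : AddMonoid.End (Additive A) := θ - 1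
    have himg : ∀ c, ∃ c', δ c = p ^ i • c' := by
      intro c
      obtain ⟨w, hw, e⟩ := c.toMul.2
      have hm : g * w * g⁻¹ * w⁻¹ ∈ W (i + 1 + i) := by
        rw [show i + 1 + i = i + (i + 1) by omega]
        exact h.comm i (i + 1) hi (by omega) (Subgroup.commutator_mem_commutator hg hw)
      obtain ⟨v, hv, ev⟩ := exists_pow_of_mem h (i := i + 1) (by omega) f hker i _ hm
      refine ⟨Additive.ofMul ⟨f v, Subgroup.mem_map_of_mem f hv⟩, ?_⟩
      apply Additive.toMul.injective
      apply Subtype.ext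
      show f g * c.toMul.1 * (f g)⁻¹ / c.toMul.1 = (f v) ^ p ^ i
      rw [← e, div_eq_mul_inv, ← ev]
      simp
    have hR : ∀ n : ℕ, ∃ R : AddMonoid.End (Additive A), θ ^ n = 1 + δ * R := by
      intro n
      induction n with
      | zero => exact ⟨0, by simp⟩
      | succ n ihn =>
        obtain ⟨R, hR⟩ := ihn
        refine ⟨1 + θ * R, ?_⟩
        have hc : θ * δ = δ * θ := by simp [δ, mul_sub, sub_mul]
        rw [pow_succ', hR, mul_add, mul_one, mul_add, mul_one, ← mul_assoc θ δ, hc, mul_assoc,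
          show θ + δ * (θ * R) = 1 + (δ + δ * (θ * R)) by simp [δ]; abel]
    choose R hR using hR
    have hsum : δ * (p : AddMonoid.End (Additive A)) = -(δ * δ * ∑ k ∈ Finset.range p, R k) := by
      have h1 : δ * ∑ k ∈ Finset.range p, θ ^ k = 0 := by
        rw [mul_geom_sum, hθp, sub_self]
      simp only [hR, Finset.sum_add_distrib, Finset.sum_const, Finset.card_range, nsmul_one,
        ← Finset.mul_sum, mul_add, ← mul_assoc] at h1
      exact eq_neg_of_add_eq_zero_left h1
    have hstep : ∀ c, ∃ c', δ (p • c) = p • δ (p • c') := by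
      intro c
      obtain ⟨d, hd⟩ := himg ((∑ k ∈ Finset.range p, R k) c)
      refine ⟨-(p ^ (i - 2) • d), ?_⟩
      have h2 := DFunLike.congr_fun hsum c
      have h3 : δ (p • c) = -δ (δ ((∑ k ∈ Finset.range p, R k) c)) := h2
      rw [h3, hd, smul_neg, map_neg, smul_neg, ← map_nsmul δ p, smul_smul, smul_smul]
      congr 3
      rw [mul_assoc, ← pow_succ', ← pow_succ']
      congr 1
      have := h.two_le
      omega
    have hzero : ∀ c, δ (p • c) = 0 := by
      have hn : ∀ (n : ℕ) (c : Additive A), ∃ c', δ (p • c) = p ^ n • δ (p • c') := by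
        intro n
        induction n with
        | zero => exact fun c => ⟨c, by simp⟩
        | succ n ihn =>
          intro c
          obtain ⟨c', hc'⟩ := ihn c
          obtain ⟨c'', hc''⟩ := hstep c'
          exact ⟨c'', by rw [hc', hc'', smul_smul, pow_succ]⟩
      have hA : IsPGroup p A :=
        ((hQ.of_surjective f (QuotientGroup.mk'_surjective M))).to_subgroup A
      obtain ⟨e, he⟩ := IsPGroup.iff_card.1 hA
      intro c
      obtain ⟨c', hc'⟩ := hn e c
      rw [hc', ← he]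
      exact Additive.toMul.injective (by rw [toMul_nsmul, toMul_zero]; exact pow_card_eq_one')
    set c₀ : A := ⟨f u, Subgroup.mem_map_of_mem f hu⟩
    have key := hzero (-Additive.ofMul c₀)
    rw [map_nsmul] at key
    have key' : ((δ (-Additive.ofMul c₀)).toMul : A) ^ p = 1 := by
      rw [← toMul_nsmul, key, toMul_zero]
    have e : (δ (-Additive.ofMul c₀)).toMul =
        c₀ * ⟨f g * (c₀⁻¹).1 * (f g)⁻¹, hAn.conj_mem _ (c₀⁻¹).2 _⟩ := by
      rw [mul_comm c₀]
      refine Subtype.ext ?_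
      show f g * (c₀⁻¹).1 * (f g)⁻¹ / (c₀⁻¹).1 = f g * (c₀⁻¹).1 * (f g)⁻¹ * c₀.1
      rw [div_eq_mul_inv, Subgroup.coe_inv, inv_inv]
    rw [e] at key'
    have := congrArg Subtype.val key'
    simp only [SubmonoidClass.coe_pow, Subgroup.coe_mul, Subgroup.coe_inv, OneMemClass.coe_one,
      c₀] at this
    rw [← this, map_commutatorElement, commutatorElement_def]
    group

theorem le_comm_of_le [Fact p.Prime] [Finite Q] (hQ : IsPGroup p Q) (h : Filt W p a) {b : ℕ}
    (hb : a ≤ b) (hle : W b ≤ ⁅W a, W a⁆) :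
    ∀ r, W (b + 2 * r) ≤ ⁅W (a + r), W (a + r)⁆
  | 0 => hle
  | r + 1 => by
    have ih := le_comm_of_le hQ h hb hle r
    have h1 : W (b + 2 * r + 1) ≤ ⁅W (a + r + 1), W (a + r)⁆ := by
      rw [h.pow _ (by omega), Subgroup.closure_le]
      rintro _ ⟨x, hx, rfl⟩
      exact pow_mem_comm_succ_left h (Nat.le_add_right a r) (ih hx)
    rw [show b + 2 * (r + 1) = b + 2 * r + 1 + 1 by omega, h.pow _ (by omega),
      Subgroup.closure_le]
    rintro _ ⟨x, hx, rfl⟩
    exact pow_mem_comm_succ_succ hQ h (Nat.le_add_right a r) (h1 hx)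

end CfsgLib.Alperin
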