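import Mathlib
import Cfsg.Agent.Lib.Higman.FixedPointFree

/-!
# Kreknin's theorem with bounded torsion in the zero component

If `σ` is an automorphism of order `p` of a Lie ring whose fixed points are killed by `c`, then
`(c p) ^ (2 ^ s)` kills the `s`-th derived ring, `s = 2 ^ (p - 1) - 1`.
-/

set_option autoImplicit false
set_option linter.unusedSectionVars false

namespace CfsgLib.Alperin

-- the bracket of `A ⊗ L` is taken from its Lie ring structure
attribute [-instance] LieAlgebra.ExtendScalars.instBracketTensorProduct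

open TensorProduct CfsgLib.Higman

variable {L : Type*} [LieRing L] {p : ℕ} [Fact p.Prime]

/-- The derived series of a Lie ring, as additive subgroups. -/
def lieDer (L : Type*) [LieRing L] : ℕ → AddSubgroup L
  | 0 => ⊤
  | n + 1 => AddSubgroup.closure {z | ∃ a ∈ lieDer L n, ∃ b ∈ lieDer L n, z = ⁅a, b⁆}

theorem tmul_bracket (a b : CycInt p) (u v : L) :
    ⁅(a ⊗ₜ[ℤ] u : CycInt p ⊗[ℤ] L), (b ⊗ₜ[ℤ] v : CycInt p ⊗[ℤ] L)⁆ = (a * b) ⊗ₜ ⁅u, v⁆ := rfl

theorem cyc_lie_smul (c : CycInt p) (x y : CycInt p ⊗[ℤ] L) : ⁅x, c • y⁆ = c • ⁅x, y⁆ := by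
  induction x using TensorProduct.induction_on with
  | zero => simp
  | tmul a u =>
    induction y using TensorProduct.induction_on with
    | zero => simp
    | tmul b v =>
      rw [TensorProduct.smul_tmul', tmul_bracket, tmul_bracket, TensorProduct.smul_tmul',
        smul_eq_mul, smul_eq_mul, mul_left_comm]
    | add y w hy hw => rw [smul_add, lie_add, hy, hw, lie_add, smul_add]
  | add x w hx hw => rw [add_lie, add_lie, hx, hw, smul_add]

theorem cyc_smul_lie (c : CycInt p) (x y : CycInt p ⊗[ℤ] L) : ⁅c • x, y⁆ = c • ⁅x, y⁆ := by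
  rw [← lie_skew, cyc_lie_smul, ← smul_neg, lie_skew]

/-- The extension of `σ` to the cyclotomic integers. -/
noncomputable def cycMap (p : ℕ) [Fact p.Prime] (σ : L →+ L) :
    CycInt p ⊗[ℤ] L →ₗ[CycInt p] CycInt p ⊗[ℤ] L :=
  LinearMap.baseChange (CycInt p) σ.toIntLinearMap

theorem cycMap_tmul (σ : L →+ L) (a : CycInt p) (u : L) :
    cycMap p σ (a ⊗ₜ u) = a ⊗ₜ σ u := rfl

theorem cycMap_lie (σ : L →+ L) (hσ : ∀ x y, σ ⁅x, y⁆ = ⁅σ x, σ y⁆) (x y : CycInt p ⊗[ℤ] L) :
    cycMap p σ ⁅x, y⁆ = ⁅cycMap p σ x, cycMap p σ y⁆ := by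
  induction x using TensorProduct.induction_on with
  | zero => simp
  | tmul a u =>
    induction y using TensorProduct.induction_on with
    | zero => simp
    | tmul b v => simp only [tmul_bracket, cycMap_tmul, hσ]
    | add y w hy hw => rw [lie_add, map_add, hy, hw, map_add, lie_add]
  | add x w hx hw => rw [add_lie, map_add, hx, hw, map_add, add_lie]

theorem cycMap_pow (σ : L →+ L) (hσp : ∀ x, σ^[p] x = x) : cycMap p σ ^ p = 1 := by
  have hk : ∀ (k : ℕ) (a : CycInt p) (u : L),
      (cycMap p σ ^ k) (a ⊗ₜ u) = a ⊗ₜ (σ^[k] u) := by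
    intro k
    induction k with
    | zero => exact fun a u => rfl
    | succ k ih =>
      intro a u
      rw [pow_succ', Module.End.mul_apply, ih, Function.iterate_succ_apply', cycMap_tmul]
  refine LinearMap.ext fun x => ?_
  induction x using TensorProduct.induction_on with
  | zero => simp
  | tmul a u => rw [hk, hσp]; rfl
  | add x y hx hy => rw [map_add, map_add, hx, hy]

/-- The power basis of the cyclotomic integers. -/
noncomputable def cycBasis (p : ℕ) [Fact p.Prime] :=
  (AdjoinRoot.powerBasis' (Polynomial.cyclotomic.monic p ℤ)).basis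

theorem nsmul_eq_zero_of_fixed (σ : L →+ L) (c : ℕ) (hfix : ∀ x, σ x = x → c • x = 0)
    {y : CycInt p ⊗[ℤ] L} (hy : cycMap p σ y = y) : c • y = 0 := by
  classical
  let e := TensorProduct.equivFinsuppOfBasisLeft (N := L) (cycBasis p)
  have hcomm : ∀ (z : CycInt p ⊗[ℤ] L) j, e (cycMap p σ z) j = σ (e z j) := by
    intro z j
    induction z using TensorProduct.induction_on with
    | zero => simp
    | tmul a u =>
      simp only [cycMap_tmul, e, TensorProduct.equivFinsuppOfBasisLeft_apply_tmul_apply, map_zsmul]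
    | add x y hx hy => simp only [map_add, Finsupp.add_apply, hx, hy]
  refine e.injective (Finsupp.ext fun j => ?_)
  rw [map_nsmul, Finsupp.smul_apply, map_zero, Finsupp.zero_apply]
  exact hfix _ (by rw [← hcomm, hy])

theorem one_tmul_inj : Function.Injective fun x : L => (1 : CycInt p) ⊗ₜ[ℤ] x := by
  let pb := AdjoinRoot.powerBasis' (Polynomial.cyclotomic.monic p ℤ)
  have hdim : 0 < pb.dim := by
    simp only [pb, AdjoinRoot.powerBasis'_dim, Polynomial.natDegree_cyclotomic]
    exact Nat.totient_pos.2 (Fact.out : p.Prime).pos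
  let φ : CycInt p →ₗ[ℤ] ℤ := pb.basis.coord ⟨0, hdim⟩
  have hφ : φ 1 = 1 := by
    have h1 : pb.basis ⟨0, hdim⟩ = 1 := by rw [PowerBasis.coe_basis]; simp
    rw [← h1]
    exact (Module.Basis.coord_apply _ _ _).trans
      (by rw [Module.Basis.repr_self, Finsupp.single_eq_same])
  refine Function.LeftInverse.injective
    (g := fun v => TensorProduct.lid ℤ L (LinearMap.rTensor L φ v)) fun x => ?_
  simp [hφ]

/-- The eigenspaces of the extended map. -/
noncomputable def cycEig (σ : L →+ L) (k : ZMod p) : AddSubgroup (CycInt p ⊗[ℤ] L) where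
  carrier := {x | cycMap p σ x = chr k • x}
  add_mem' ha hb := by
    simp only [Set.mem_ofPred_eq] at ha hb ⊢
    rw [map_add, ha, hb, smul_add]
  zero_mem' := by simp
  neg_mem' ha := by
    simp only [Set.mem_ofPred_eq] at ha ⊢
    rw [map_neg, ha, smul_neg]

/-- The eigenspaces of the extended map, multiplied by `c`. -/
noncomputable def scaledEig (σ : L →+ L) (c : ℕ) (k : ZMod p) :
    AddSubgroup (CycInt p ⊗[ℤ] L) :=
  (cycEig σ k).map (nsmulAddMonoidHom c)

theorem isGrading_scaledEig (σ : L →+ L) (hσ : ∀ x y, σ ⁅x, y⁆ = ⁅σ x, σ y⁆) (c : ℕ)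
    (hfix : ∀ x, σ x = x → c • x = 0) : IsGrading (scaledEig (p := p) σ c) where
  lie i j := by
    rintro _ ⟨a, ha, rfl⟩ _ ⟨b, hb, rfl⟩
    refine ⟨c • ⁅a, b⁆, ?_, ?_⟩
    · refine nsmul_mem ?_ c
      show cycMap p σ ⁅a, b⁆ = chr (i + j) • ⁅a, b⁆
      rw [cycMap_lie σ hσ, show cycMap p σ a = chr i • a from ha,
        show cycMap p σ b = chr j • b from hb, cyc_smul_lie, cyc_lie_smul, smul_smul, chr_add]
    · simp only [nsmulAddMonoidHom_apply, nsmul_lie, lie_nsmul]
  zero := by
    refine (AddSubgroup.eq_bot_iff_forall _).2 ?_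
    rintro _ ⟨a, ha, rfl⟩
    refine nsmul_eq_zero_of_fixed σ c hfix ((show cycMap p σ a = chr 0 • a from ha).trans ?_)
    rw [chr, ZMod.val_zero, pow_zero, one_smul]

theorem nsmul_mem_iSup (σ : L →+ L) (hσp : ∀ x, σ^[p] x = x) (c : ℕ) (x : CycInt p ⊗[ℤ] L) :
    (c * p) • x ∈ ⨆ k, scaledEig (p := p) σ c k := by
  let w : ZMod p → CycInt p ⊗[ℤ] L := fun k =>
    ∑ z : ZMod p, chr (k * -z) • ((cycMap p σ ^ z.val) x)
  have hsum : ∑ k, w k = p • x := by
    simp only [w]
    rw [Finset.sum_comm, Fintype.sum_eq_single (0 : ZMod p)]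
    · simp [chr, ZMod.card]
    · intro z hz
      rw [← Finset.sum_smul, sum_chr_mul (neg_ne_zero.2 hz), zero_smul]
  rw [mul_smul, ← hsum, Finset.smul_sum]
  refine sum_mem fun k _ => le_iSup (scaledEig (p := p) σ c) k ⟨w k, ?_, rfl⟩
  show cycMap p σ (w k) = chr k • w k
  simp only [w, map_sum, Finset.smul_sum, map_smul, smul_smul]
  refine Fintype.sum_equiv (Equiv.addRight (1 : ZMod p)) _ _ fun z => ?_
  rw [← chr_add, Equiv.coe_addRight, show k + k * -(z + 1) = k * -z by ring]
  congr 1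
  rw [← Module.End.mul_apply, ← pow_succ', ZMod.val_add, ZMod.val_one,
    ← pow_eq_pow_mod _ (cycMap_pow σ hσp)]

/-- **Kreknin's theorem with torsion.** -/
theorem lieDer_torsion (σ : L →+ L) (hσ : ∀ x y, σ ⁅x, y⁆ = ⁅σ x, σ y⁆)
    (hσp : ∀ x, σ^[p] x = x) (c : ℕ) (hfix : ∀ x, σ x = x → c • x = 0) {x : L}
    (hx : x ∈ lieDer L (2 ^ (p - 1) - 1)) :
    ((c * p) ^ 2 ^ (2 ^ (p - 1) - 1)) • x = 0 := by
  have hE := isGrading_scaledEig (p := p) σ hσ c hfix
  have key : ∀ n, ∀ x ∈ lieDer L n,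
      ((c * p) ^ 2 ^ n) • ((1 : CycInt p) ⊗ₜ[ℤ] x) ∈ ⨆ k, der (scaledEig (p := p) σ c) n k := by
    intro n
    induction n with
    | zero =>
      intro x _
      rw [pow_zero, pow_one]
      exact nsmul_mem_iSup σ hσp c _
    | succ n ih =>
      intro x hx
      induction hx using AddSubgroup.closure_induction with
      | mem z hz =>
        obtain ⟨a, ha, b, hb, rfl⟩ := hz
        have h1 : ((c * p) ^ 2 ^ (n + 1)) • ((1 : CycInt p) ⊗ₜ[ℤ] ⁅a, b⁆) =
            ⁅((c * p) ^ 2 ^ n) • ((1 : CycInt p) ⊗ₜ[ℤ] a),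
              ((c * p) ^ 2 ^ n) • ((1 : CycInt p) ⊗ₜ[ℤ] b)⁆ := by
          rw [nsmul_lie, lie_nsmul, tmul_bracket, one_mul, smul_smul, ← pow_add, pow_succ, mul_two]
        rw [h1]
        have ha' := ih a ha
        have hb' := ih b hb
        rw [AddSubgroup.iSup_eq_closure] at ha' hb'
        refine lie_mem_closure ?_ ha' hb'
        rintro u hu v hv
        obtain ⟨i, hi⟩ := Set.mem_iUnion.1 hu
        obtain ⟨j, hj⟩ := Set.mem_iUnion.1 hv
        exact le_iSup (fun k => der (scaledEig (p := p) σ c) (n + 1) k) (i + j)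
          (AddSubgroup.subset_closure ⟨i, j, u, v, rfl, hi, hj, rfl⟩)
      | zero => rw [TensorProduct.tmul_zero, smul_zero]; exact zero_mem _
      | add a b _ _ ha hb => rw [TensorProduct.tmul_add, smul_add]; exact add_mem ha hb
      | neg a _ ha => rw [TensorProduct.tmul_neg, smul_neg]; exact neg_mem ha
  have h := key _ x hx
  simp only [der_eq_bot hE, iSup_bot, AddSubgroup.mem_bot] at h
  refine one_tmul_inj (p := p) ?_
  simp only [TensorProduct.tmul_smul, TensorProduct.tmul_zero]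
  exact h

end CfsgLib.Alperin
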