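import Mathlib

/-!
# Automorphisms with few fixed points

`Fix α p m` says that `α ^ p = 1` and that `α` fixes at most `m` elements. The property passes to
invariant subgroups and to quotients.
-/

set_option autoImplicit false

namespace CfsgLib.Alperin

variable {G H : Type*} [Group G] [Group H]

/-- An automorphism killed by `p` with at most `m` fixed points. -/
structure Fix (α : MulAut G) (p m : ℕ) : Prop where
  pow : α ^ p = 1
  card : Nat.card {g : G // α g = g} ≤ m

theorem pow_apply_of_comm (f : G →* H) (α : MulAut G) (β : MulAut H)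
    (h : ∀ g, β (f g) = f (α g)) : ∀ (k : ℕ) (g : G), (β ^ k) (f g) = f ((α ^ k) g)
  | 0, g => by simp
  | k + 1, g => by
    rw [pow_succ', pow_succ', MulAut.mul_apply, MulAut.mul_apply, pow_apply_of_comm f α β h k g, h]

theorem Fix.of_injective [Finite H] {α : MulAut G} {β : MulAut H} {p m : ℕ} (hβ : Fix β p m)
    (f : G →* H) (hf : Function.Injective f) (h : ∀ g, β (f g) = f (α g)) : Fix α p m := by
  refine ⟨MulEquiv.ext fun g => hf ?_, le_trans ?_ hβ.card⟩
  · rw [← pow_apply_of_comm f α β h, hβ.pow]
    rfl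
  · refine Nat.card_le_card_of_injective (fun g => ⟨f g.1, by rw [h, g.2]⟩) fun a b hab => ?_
    exact Subtype.ext (hf (congrArg Subtype.val hab))

theorem card_fix_mul_card_image [Finite G] (α : MulAut G) :
    Nat.card {g : G // α g = g} * Nat.card (Set.range fun g => g⁻¹ * α g) = Nat.card G := by
  classical
  let C : Subgroup G := MonoidHom.eqLocus α.toMonoidHom (MonoidHom.id G)
  have hC : Nat.card C = Nat.card {g : G // α g = g} := rfl
  have key : ∀ a b : G, a * b⁻¹ ∈ C ↔ a⁻¹ * α a = b⁻¹ * α b := by
    intro a b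
    show α (a * b⁻¹) = a * b⁻¹ ↔ _
    rw [map_mul, map_inv, mul_inv_eq_iff_eq_mul, inv_mul_eq_iff_eq_mul]
    constructor <;> intro h <;> rw [h] <;> group
  let e : Quotient (QuotientGroup.rightRel C) ≃ Set.range fun g => g⁻¹ * α g := by
    refine Equiv.ofBijective (Quotient.lift (fun g => ⟨g⁻¹ * α g, g, rfl⟩) ?_) ⟨?_, ?_⟩
    · intro a b hab
      exact Subtype.ext ((key b a).1 (QuotientGroup.rightRel_apply.1 hab)).symm
    · rintro ⟨a⟩ ⟨b⟩ hab
      exact Quotient.sound (QuotientGroup.rightRel_apply.2
        ((key b a).2 (congrArg Subtype.val hab).symm))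
    · rintro ⟨x, g, rfl⟩
      exact ⟨⟦g⟧, rfl⟩
  rw [← hC, ← Nat.card_congr e, Nat.card_congr (QuotientGroup.quotientRightRelEquivQuotientLeftRel C),
    mul_comm, ← Subgroup.index, C.index_mul_card]

theorem Fix.of_surjective [Finite G] [Finite H] {α : MulAut G} {β : MulAut H} {p m : ℕ}
    (hα : Fix α p m) (f : G →* H) (hf : Function.Surjective f) (h : ∀ g, β (f g) = f (α g)) :
    Fix β p m := by
  refine ⟨MulEquiv.ext fun x => ?_, le_trans ?_ hα.card⟩
  · obtain ⟨g, rfl⟩ := hf x
    rw [pow_apply_of_comm f α β h, hα.pow]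
    rfl
  have e1 := card_fix_mul_card_image α
  have e2 := card_fix_mul_card_image β
  have hG : Nat.card G = Nat.card f.ker * Nat.card H := by
    rw [← Subgroup.card_mul_index f.ker, Subgroup.index_ker,
      MonoidHom.range_eq_top.2 hf, Subgroup.card_top]
  set S := Set.range fun g => g⁻¹ * α g
  set T := Set.range fun g => g⁻¹ * β g
  have hST : Nat.card S ≤ Nat.card f.ker * Nat.card T := by
    choose s hs using hf
    rw [← Nat.card_prod]
    refine Nat.card_le_card_of_injective
      (fun x : S => (⟨(s (f x.1))⁻¹ * x.1, by simp [MonoidHom.mem_ker, hs]⟩, ⟨f x.1, ?_⟩)) ?_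
    · obtain ⟨_, g, rfl⟩ := x
      exact ⟨f g, by simp [h]⟩
    · intro a b hab
      have h2 : f a.1 = f b.1 := congrArg Subtype.val (congrArg Prod.snd hab)
      have h1 := congrArg Subtype.val (congrArg Prod.fst hab)
      simp only at h1
      rw [h2, mul_right_inj] at h1
      exact Subtype.ext h1
  have hTpos : 0 < Nat.card f.ker * Nat.card T :=
    Nat.mul_pos Nat.card_pos (by
      have : Nonempty T := ⟨⟨1, 1, by simp⟩⟩
      exact Nat.card_pos)
  refine Nat.le_of_mul_le_mul_right ?_ hTpos
  calc Nat.card {x : H // β x = x} * (Nat.card f.ker * Nat.card T)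
      = Nat.card f.ker * (Nat.card {x : H // β x = x} * Nat.card T) := by ring
    _ = Nat.card G := by rw [e2, hG]
    _ = Nat.card {g : G // α g = g} * Nat.card S := e1.symm
    _ ≤ _ := Nat.mul_le_mul_left _ hST

/-- A subgroup mapped into itself by `α`. -/
def Inv (α : MulAut G) (K : Subgroup G) : Prop := ∀ g ∈ K, α g ∈ K

theorem Inv.map_eq [Finite G] {α : MulAut G} {K : Subgroup G} (hK : Inv α K) :
    K.map α.toMonoidHom = K := by
  refine Subgroup.eq_of_le_of_card_ge ?_ (le_of_eq ?_)
  · rintro _ ⟨g, hg, rfl⟩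
    exact hK g hg
  · rw [Subgroup.card_map_of_injective α.injective]

theorem Inv.mem_iff [Finite G] {α : MulAut G} {K : Subgroup G} (hK : Inv α K) {g : G} :
    α g ∈ K ↔ g ∈ K := by
  refine ⟨fun hg => ?_, hK g⟩
  rw [← hK.map_eq] at hg
  obtain ⟨x, hx, e⟩ := hg
  exact α.injective e ▸ hx

theorem Inv.pow {α : MulAut G} {K : Subgroup G} (hK : Inv α K) :
    ∀ (k : ℕ), Inv (α ^ k) K
  | 0 => fun _ hg => hg
  | k + 1 => fun g hg => by
    rw [pow_succ', MulAut.mul_apply]
    exact hK _ (hK.pow k g hg)

theorem inv_of_char (α : MulAut G) (K : Subgroup G) [K.Characteristic] : Inv α K := fun g hg => by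
  have h : K.comap α.toMonoidHom = K := Subgroup.Characteristic.fixed ‹_› α
  rw [← h] at hg
  exact hg

theorem Inv.map [Finite G] {α : MulAut G} {β : MulAut H} (f : G →* H)
    (h : ∀ g, β (f g) = f (α g)) {K : Subgroup G} (hK : Inv α K) : Inv β (K.map f) := by
  rintro _ ⟨g, hg, rfl⟩
  exact ⟨α g, hK g hg, (h g).symm⟩

theorem Inv.comap {α : MulAut G} {β : MulAut H} (f : G →* H) (h : ∀ g, β (f g) = f (α g))
    {K : Subgroup H} (hK : Inv β K) : Inv α (K.comap f) := fun g hg => by
  rw [Subgroup.mem_comap, ← h]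
  exact hK _ hg

theorem inv_closure (α : MulAut G) {S : Set G} (hS : ∀ g ∈ S, α g ∈ Subgroup.closure S) :
    Inv α (Subgroup.closure S) := fun _ hg =>
  (Subgroup.closure_le ((Subgroup.closure S).comap α.toMonoidHom)).2 hS hg

theorem Inv.commutator {α : MulAut G} {A B : Subgroup G} (hA : Inv α A) (hB : Inv α B) :
    Inv α ⁅A, B⁆ := by
  intro g hg
  have : ⁅A, B⁆ ≤ (⁅A, B⁆).comap α.toMonoidHom := by
    refine Subgroup.commutator_le.2 fun a ha b hb => ?_
    rw [Subgroup.mem_comap]
    simp only [MulEquiv.coe_toMonoidHom, map_commutatorElement]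
    exact Subgroup.commutator_mem_commutator (hA a ha) (hB b hb)
  exact this hg

theorem Inv.inf {α : MulAut G} {A B : Subgroup G} (hA : Inv α A) (hB : Inv α B) :
    Inv α (A ⊓ B) := fun g hg => ⟨hA g hg.1, hB g hg.2⟩

theorem Inv.sup {α : MulAut G} {A B : Subgroup G} (hA : Inv α A) (hB : Inv α B) :
    Inv α (A ⊔ B) := fun g hg => by
  have : A ⊔ B ≤ (A ⊔ B).comap α.toMonoidHom :=
    sup_le (fun a ha => (le_sup_left : A ≤ A ⊔ B) (hA a ha))
      (fun b hb => (le_sup_right : B ≤ A ⊔ B) (hB b hb))
  exact this hg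

/-- The restriction of `α` to an invariant subgroup. -/
noncomputable def restr [Finite G] (α : MulAut G) (K : Subgroup G) (hK : Inv α K) : MulAut K where
  toFun g := ⟨α g.1, hK g.1 g.2⟩
  invFun g := ⟨α.symm g.1, hK.mem_iff.1 (by rw [MulEquiv.apply_symm_apply]; exact g.2)⟩
  left_inv g := Subtype.ext (α.symm_apply_apply g.1)
  right_inv g := Subtype.ext (α.apply_symm_apply g.1)
  map_mul' a b := Subtype.ext (map_mul α a.1 b.1)

theorem Fix.restr [Finite G] {α : MulAut G} {p m : ℕ} (hα : Fix α p m) (K : Subgroup G)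
    (hK : Inv α K) : Fix (Alperin.restr α K hK) p m :=
  hα.of_injective K.subtype Subtype.val_injective fun _ => rfl

/-- The automorphism induced on a quotient. -/
noncomputable def quot [Finite G] (α : MulAut G) (N : Subgroup G) [N.Normal] (hN : Inv α N) :
    MulAut (G ⧸ N) :=
  QuotientGroup.congr N N α hN.map_eq

theorem quot_mk [Finite G] (α : MulAut G) (N : Subgroup G) [N.Normal] (hN : Inv α N) (g : G) :
    quot α N hN (QuotientGroup.mk' N g) = QuotientGroup.mk' N (α g) := rfl

theorem Fix.quot [Finite G] {α : MulAut G} {p m : ℕ} (hα : Fix α p m) (N : Subgroup G) [N.Normal]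
    (hN : Inv α N) : Fix (Alperin.quot α N hN) p m :=
  hα.of_surjective (QuotientGroup.mk' N) (QuotientGroup.mk'_surjective N) (quot_mk α N hN)

theorem derivedSeries_card_eq_bot [Finite G] (hG : Group.IsSolvable G) :
    derivedSeries G (Nat.card G) = ⊥ := by
  obtain ⟨k, hk⟩ := hG.solvable
  have key : ∀ n, derivedSeries G n = ⊥ ∨ Nat.card (derivedSeries G n) + n ≤ Nat.card G := by
    intro n
    induction n with
    | zero => exact Or.inr (by simp)
    | succ n ih =>
      rcases ih with h | h
      · exact Or.inl (le_bot_iff.1 (h ▸ derivedSeries_antitone G n.le_succ))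
      by_cases he : derivedSeries G (n + 1) = derivedSeries G n
      · left
        have hc : ∀ j, derivedSeries G (n + j) = derivedSeries G n := by
          intro j
          induction j with
          | zero => rfl
          | succ j ihj => rw [← add_assoc, derivedSeries_succ, ihj, ← derivedSeries_succ, he]
        rw [he, ← hc k]
        exact le_bot_iff.1 (hk ▸ derivedSeries_antitone G (Nat.le_add_left k n))
      · right
        have hlt : derivedSeries G (n + 1) < derivedSeries G n :=
          lt_of_le_of_ne (derivedSeries_antitone G n.le_succ) he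
        have := Set.Finite.card_lt_card (Set.toFinite _) (SetLike.coe_ssubset_coe.2 hlt)
        simp only [SetLike.coe_sort_coe] at this
        omega
  rcases key (Nat.card G) with h | h
  · exact h
  · have : 0 < Nat.card (derivedSeries G (Nat.card G)) := Nat.card_pos
    omega

/-- A bounded image bounds the derived length modulo the kernel. -/
theorem derivedSeries_le_ker [Finite G] [Finite H] (hG : Group.IsSolvable G) (f : G →* H) {n : ℕ}
    (hn : Nat.card f.range ≤ n) : derivedSeries G n ≤ f.ker := by
  have : Group.IsSolvable f.range := by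
    have := hG
    exact Group.isSolvable_of_surjective f.rangeRestrict_surjective
  have h1 : derivedSeries f.range n = ⊥ :=
    le_bot_iff.1 (derivedSeries_card_eq_bot this ▸ derivedSeries_antitone _ hn)
  intro g hg
  have h2 := map_derivedSeries_le_derivedSeries f.rangeRestrict n (Subgroup.mem_map_of_mem _ hg)
  rw [h1, Subgroup.mem_bot] at h2
  exact congrArg Subtype.val h2

/-- Concatenation of derived series. -/
theorem derivedSeries_add_le {K : Subgroup G} {i : ℕ} (h : derivedSeries G i ≤ K) :
    ∀ j, derivedSeries G (i + j) ≤ (derivedSeries K j).map K.subtype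
  | 0 => by
    rw [Nat.add_zero, derivedSeries_zero, ← MonoidHom.range_eq_map, Subgroup.range_subtype]
    exact h
  | j + 1 => by
    rw [← add_assoc, derivedSeries_succ, derivedSeries_succ, Subgroup.map_commutator]
    exact Subgroup.commutator_mono (derivedSeries_add_le h j) (derivedSeries_add_le h j)

/-- An automorphism of order `p` of a group of exponent `p` bounds the order by its fixed points. -/
theorem card_le_of_exponent_prime {M : Type*} [AddCommGroup M] [Finite M] {p m : ℕ}
    (hp : p.Prime) (τ : AddMonoid.End M) (hτ : τ ^ p = 1) (hexp : ∀ x : M, p • x = 0)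
    (hfix : Nat.card {x : M // τ x = x} ≤ m) : Nat.card M ≤ m ^ p := by
  set f : AddMonoid.End M := τ - 1
  have hpe : (p : AddMonoid.End M) = 0 := AddMonoidHom.ext fun x => by
    exact (AddMonoid.End.natCast_apply p x).trans (hexp x)
  have hfp : f ^ p = 0 := by
    obtain ⟨r, hr⟩ := (Commute.one_left f).exists_add_pow_prime_eq hp
    rw [hpe, zero_mul, zero_mul, zero_mul, add_zero, one_pow,
      show 1 + f = τ from add_sub_cancel 1 τ, hτ] at hr
    exact (add_eq_left.1 hr.symm)
  have hker : Nat.card {x : M // f x = 0} ≤ m := by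
    refine le_trans (le_of_eq (Nat.card_congr (Equiv.subtypeEquivRight fun x => ?_))) hfix
    exact sub_eq_zero
  have key : ∀ g : AddMonoid.End M, Nat.card {x : M // (g * f) x = 0} ≤
      Nat.card {x : M // g x = 0} * Nat.card {x : M // f x = 0} := by
    intro g
    choose s hs using fun y : Set.range fun x : {x : M // (g * f) x = 0} => f x.1 => y.2
    rw [← Nat.card_prod]
    refine Nat.card_le_card_of_injective (fun x =>
      (⟨f x.1, x.2⟩, ⟨x.1 - (s ⟨f x.1, x, rfl⟩).1, ?_⟩)) ?_
    · rw [map_sub]
      exact sub_eq_zero.2 (hs ⟨f x.1, x, rfl⟩).symm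
    · intro a b hab
      have h1 : f a.1 = f b.1 := congrArg Subtype.val (congrArg Prod.fst hab)
      have h2 := congrArg Subtype.val (congrArg Prod.snd hab)
      simp only at h2
      have h3 : (⟨f a.1, a, rfl⟩ : Set.range fun x : {x : M // (g * f) x = 0} => f x.1) =
          ⟨f b.1, b, rfl⟩ := Subtype.ext h1
      rw [h3] at h2
      exact Subtype.ext (sub_left_inj.1 h2)
  have hall : ∀ j, Nat.card {x : M // (f ^ j) x = 0} ≤ m ^ j := by
    intro j
    induction j with
    | zero =>
      rw [pow_zero, pow_zero]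
      have : Subsingleton {x : M // (1 : AddMonoid.End M) x = 0} :=
        ⟨fun a b => Subtype.ext (a.2.trans b.2.symm)⟩
      exact Finite.card_le_one_iff_subsingleton.2 ‹_›
    | succ j ih =>
      rw [pow_succ, pow_succ m]
      exact (key _).trans (Nat.mul_le_mul ih hker)
  refine le_trans ?_ (hall p)
  exact Nat.card_le_card_of_injective (fun x => ⟨x, by rw [hfp]; rfl⟩)
    fun a b hab => congrArg Subtype.val hab

end CfsgLib.Alperin
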