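import Mathlib
import Cfsg.Agent.Lib.Alperin.Basic

/-!
# Congruence levels in the units of a ring

For a homomorphism into the units of a ring `E` in which `p ^ k = 0` and multiplication by `p`
has kernel `p ^ (k - 1) E`: the congruence levels and their coordinates.
-/

set_option autoImplicit false

namespace CfsgLib.Alperin

open scoped commutatorElement

/-- Iterated derived subgroups of a subgroup. -/
def der {G : Type*} [Group G] (H : Subgroup G) : ℕ → Subgroup G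
  | 0 => H
  | n + 1 => ⁅der H n, der H n⁆

section der

variable {G : Type*} [Group G]

theorem der_mono {H K : Subgroup G} (h : H ≤ K) : ∀ n, der H n ≤ der K n
  | 0 => h
  | n + 1 => Subgroup.commutator_mono (der_mono h n) (der_mono h n)

theorem der_der (H : Subgroup G) (i : ℕ) : ∀ j, der (der H i) j = der H (i + j)
  | 0 => rfl
  | j + 1 => by
    show ⁅der (der H i) j, der (der H i) j⁆ = _
    rw [der_der H i j]
    rfl

theorem der_top : ∀ n, der (⊤ : Subgroup G) n = derivedSeries G n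
  | 0 => rfl
  | n + 1 => by
    rw [derivedSeries_succ, ← der_top n]
    rfl

theorem der_le_self (H : Subgroup G) : ∀ n, der H n ≤ H
  | 0 => le_rfl
  | n + 1 => (Subgroup.commutator_mono (der_le_self H n) (der_le_self H n)).trans H.commutator_le_self

theorem der_succ' (H : Subgroup G) (n : ℕ) : der H (n + 1) = der ⁅H, H⁆ n := by
  rw [add_comm, ← der_der H 1 n]
  rfl

theorem der_inv {α : MulAut G} {H : Subgroup G} (hH : Inv α H) : ∀ n, Inv α (der H n)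
  | 0 => hH
  | n + 1 => (der_inv hH n).commutator (der_inv hH n)

theorem der_le_of_le {H K : Subgroup G} {i j : ℕ} (h : der H i ≤ K) : der H (i + j) ≤ der K j :=
  der_der H i j ▸ der_mono h j

end der

/-- The setting: `p ^ k = 0` in `E` and the kernel of `p` is `p ^ (k - 1) E`. -/
structure Tors (E : Type*) [Ring E] (p k : ℕ) : Prop where
  pow_zero' : (p : E) ^ k = 0
  tors : ∀ x : E, (p : E) * x = 0 → ∃ y, x = (p : E) ^ (k - 1) * y

variable {E : Type*} [Ring E] {p k : ℕ}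

theorem comm_pp (j : ℕ) (x : E) : x * (p : E) ^ j = (p : E) ^ j * x :=
  (((Nat.cast_commute p x).pow_left j).eq).symm

theorem pp_dvd_mul_right {j : ℕ} {x : E} (h : (p : E) ^ j ∣ x) (y : E) : (p : E) ^ j ∣ y * x := by
  obtain ⟨c, rfl⟩ := h
  exact ⟨y * c, by rw [← mul_assoc, comm_pp, mul_assoc]⟩

theorem pp_dvd_mul {i j : ℕ} {x y : E} (hx : (p : E) ^ i ∣ x) (hy : (p : E) ^ j ∣ y) :
    (p : E) ^ (i + j) ∣ x * y := by
  obtain ⟨c, rfl⟩ := hx
  obtain ⟨d, rfl⟩ := hy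
  exact ⟨c * d, by rw [pow_add, mul_assoc, ← mul_assoc c, comm_pp]; simp only [mul_assoc]⟩

namespace Tors

theorem tors_iter (T : Tors E p k) : ∀ j, j ≤ k → ∀ x : E, (p : E) ^ j * x = 0 →
    (p : E) ^ (k - j) ∣ x
  | 0, _, x, hx => by
    rw [pow_zero, one_mul] at hx
    rw [hx]
    exact dvd_zero _
  | j + 1, hj, x, hx => by
    rw [pow_succ', mul_assoc] at hx
    obtain ⟨y, hy⟩ := T.tors _ hx
    have h0 : (p : E) ^ j * (x - (p : E) ^ (k - (j + 1)) * y) = 0 := by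
      rw [mul_sub, ← mul_assoc, ← pow_add, show j + (k - (j + 1)) = k - 1 by omega, hy, sub_self]
    have h1 : (p : E) ^ (k - (j + 1)) ∣ x - (p : E) ^ (k - (j + 1)) * y :=
      (pow_dvd_pow _ (by omega)).trans (tors_iter T j (by omega) _ h0)
    simpa using dvd_add h1 (dvd_mul_right _ y)

theorem dvd_cancel (T : Tors E p k) {i j : ℕ} (hij : j ≤ i) (hik : i ≤ k) {x : E}
    (h : (p : E) ^ i ∣ (p : E) ^ j * x) : (p : E) ^ (i - j) ∣ x := by
  obtain ⟨y, hy⟩ := h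
  have h0 : (p : E) ^ j * (x - (p : E) ^ (i - j) * y) = 0 := by
    rw [mul_sub, ← mul_assoc, ← pow_add, Nat.add_sub_cancel' hij, hy, sub_self]
  have h1 : (p : E) ^ (i - j) ∣ x - (p : E) ^ (i - j) * y :=
    (pow_dvd_pow _ (by omega)).trans (T.tors_iter j (hij.trans hik) _ h0)
  simpa using dvd_add h1 (dvd_mul_right _ y)

end Tors

/-- The two-sided ideal `p ^ h E`. -/
def ppIdeal (E : Type*) [Ring E] (p h : ℕ) : Ideal E := Ideal.span {(p : E) ^ h}

theorem mem_ppIdeal {h : ℕ} {x : E} : x ∈ ppIdeal E p h ↔ (p : E) ^ h ∣ x := by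
  rw [ppIdeal, Ideal.mem_span_singleton']
  exact ⟨fun ⟨a, ha⟩ => ⟨a, by rw [← ha, comm_pp]⟩, fun ⟨a, ha⟩ => ⟨a, by rw [ha, comm_pp]⟩⟩

instance (h : ℕ) : (ppIdeal E p h).IsTwoSided := ⟨fun b ha => by
  rw [mem_ppIdeal] at ha ⊢
  exact ha.trans (dvd_mul_right _ b)⟩

theorem mk_eq_mk {h : ℕ} {x y : E} : Ideal.Quotient.mk (ppIdeal E p h) x =
    Ideal.Quotient.mk (ppIdeal E p h) y ↔ (p : E) ^ h ∣ x - y := by
  rw [Ideal.Quotient.eq, mem_ppIdeal]

variable {X : Type*} [Group X]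

/-- The congruence levels. -/
def lev (φ : X →* Eˣ) (p j : ℕ) : Subgroup X where
  carrier := {x | (p : E) ^ j ∣ (φ x : E) - 1}
  one_mem' := by simp
  mul_mem' {a b} ha hb := by
    simp only [Set.mem_ofPred_eq, map_mul, Units.val_mul] at ha hb ⊢
    rw [show (φ a : E) * φ b - 1 = ((φ a : E) - 1) * φ b + ((φ b : E) - 1) by
      rw [sub_mul, one_mul, sub_add_sub_cancel]]
    exact dvd_add (ha.trans (dvd_mul_right _ _)) hb
  inv_mem' {a} ha := by
    simp only [Set.mem_ofPred_eq, map_inv] at ha ⊢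
    rw [show (((φ a)⁻¹ : Eˣ) : E) - 1 = -(((φ a : E) - 1) * ((φ a)⁻¹ : Eˣ)) by
      rw [sub_mul, Units.mul_inv, one_mul, neg_sub]]
    exact (ha.trans (dvd_mul_right _ _)).neg_right

theorem mem_lev {φ : X →* Eˣ} {j : ℕ} {x : X} : x ∈ lev φ p j ↔ (p : E) ^ j ∣ (φ x : E) - 1 :=
  Iff.rfl

theorem lev_anti (φ : X →* Eˣ) : Antitone (lev φ p) := fun _ _ h _ hx =>
  (pow_dvd_pow _ h).trans hx

instance lev_normal (φ : X →* Eˣ) (j : ℕ) : (lev φ p j).Normal := ⟨fun x hx g => by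
  rw [mem_lev] at hx ⊢
  simp only [map_mul, map_inv, Units.val_mul]
  rw [show (φ g : E) * φ x * ((φ g)⁻¹ : Eˣ) - 1 = φ g * ((φ x : E) - 1) * ((φ g)⁻¹ : Eˣ) by
    rw [mul_sub, mul_one, sub_mul, Units.mul_inv]]
  exact (pp_dvd_mul_right hx _).trans (dvd_mul_right _ _)⟩

theorem lev_inv (φ : X →* Eˣ) {α : MulAut X} {τ : Eˣ} (hτ : ∀ x, φ (α x) = τ * φ x * τ⁻¹)
    (j : ℕ) : Inv α (lev φ p j) := fun x hx => by
  rw [mem_lev] at hx ⊢
  rw [hτ, Units.val_mul, Units.val_mul,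
    show (τ : E) * φ x * (τ⁻¹ : Eˣ) - 1 = τ * ((φ x : E) - 1) * (τ⁻¹ : Eˣ) by
      rw [mul_sub, mul_one, sub_mul, Units.mul_inv]]
  exact (pp_dvd_mul_right hx _).trans (dvd_mul_right _ _)

theorem commutator_sub_one (φ : X →* Eˣ) (x y : X) : (φ ⁅x, y⁆ : E) - 1 =
    (((φ x : E) - 1) * ((φ y : E) - 1) - ((φ y : E) - 1) * ((φ x : E) - 1)) *
      (((φ x)⁻¹ * (φ y)⁻¹ : Eˣ) : E) := by
  have h : ((φ x : E) - 1) * ((φ y : E) - 1) - ((φ y : E) - 1) * ((φ x : E) - 1) =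
      (φ x : E) * φ y - φ y * φ x := by
    simp only [sub_mul, mul_sub, one_mul, mul_one]
    abel
  rw [h, sub_mul, ← Units.val_mul, ← Units.val_mul, ← Units.val_mul, map_commutatorElement,
    commutatorElement_def, ← Units.val_mul]
  congr 2
  · simp [mul_assoc]
  · simp [mul_assoc]

theorem lev_comm (φ : X →* Eˣ) (i j : ℕ) : ⁅lev φ p i, lev φ p j⁆ ≤ lev φ p (i + j) := by
  refine Subgroup.commutator_le.2 fun x hx y hy => ?_
  rw [mem_lev, commutator_sub_one]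
  exact (dvd_sub (pp_dvd_mul hx hy) (add_comm j i ▸ pp_dvd_mul hy hx)).trans (dvd_mul_right _ _)

theorem der_lev_le (φ : X →* Eˣ) (j : ℕ) : ∀ r, der (lev φ p j) r ≤ lev φ p (2 ^ r * j)
  | 0 => by simp [der]
  | r + 1 => by
    refine (Subgroup.commutator_mono (der_lev_le φ j r) (der_lev_le φ j r)).trans
      ((lev_comm φ _ _).trans_eq ?_)
    congr 1
    ring

/-- `Y` is the coordinate of `x` at level `i` to precision `h`. -/
def Coord (φ : X →* Eˣ) (p i h : ℕ) (x : X) (Y : E) : Prop :=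
  (p : E) ^ (i + h) ∣ (φ x : E) - 1 - (p : E) ^ i * Y

theorem Coord.mem_lev {φ : X →* Eˣ} {i h : ℕ} {x : X} {Y : E} (hx : Coord φ p i h x Y) :
    x ∈ lev φ p i := by
  have := dvd_add ((pow_dvd_pow (p : E) (Nat.le_add_right i h)).trans hx) (dvd_mul_right _ Y)
  rwa [sub_add_cancel] at this

theorem exists_coord {φ : X →* Eˣ} {i : ℕ} (h : ℕ) {x : X} (hx : x ∈ lev φ p i) :
    ∃ Y, Coord φ p i h x Y := by
  obtain ⟨Y, hY⟩ := hx
  exact ⟨Y, by rw [Coord, hY, sub_self]; exact dvd_zero _⟩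

theorem coord_zero {φ : X →* Eˣ} {i h : ℕ} {x : X} (hx : x ∈ lev φ p (i + h)) :
    Coord φ p i h x 0 := by
  rw [Coord, mul_zero, sub_zero]
  exact hx

theorem Coord.mem_of_dvd {φ : X →* Eˣ} {i h : ℕ} {x : X} {Y : E} (hx : Coord φ p i h x Y)
    (hY : (p : E) ^ h ∣ Y) : x ∈ lev φ p (i + h) := by
  obtain ⟨c, rfl⟩ := hY
  have := dvd_add hx (show (p : E) ^ (i + h) ∣ (p : E) ^ i * ((p : E) ^ h * c) from
    ⟨c, by rw [pow_add, mul_assoc]⟩)
  rwa [sub_add_cancel] at this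

theorem Coord.unique (T : Tors E p k) {φ : X →* Eˣ} {i h : ℕ} (hk : i + h ≤ k) {x : X} {Y Z : E}
    (hY : Coord φ p i h x Y) (hZ : Coord φ p i h x Z) : (p : E) ^ h ∣ Y - Z := by
  have h1 := dvd_sub hZ hY
  rw [sub_sub_sub_cancel_left, ← mul_sub] at h1
  have := T.dvd_cancel (Nat.le_add_right i h) hk h1
  rwa [Nat.add_sub_cancel_left] at this

theorem Coord.congr {φ : X →* Eˣ} {i h : ℕ} {x : X} {Y Z : E} (hY : Coord φ p i h x Y)
    (hd : (p : E) ^ h ∣ Y - Z) : Coord φ p i h x Z := by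
  obtain ⟨c, hc⟩ := hd
  have := dvd_add hY (show (p : E) ^ (i + h) ∣ (p : E) ^ i * (Y - Z) from
    ⟨c, by rw [hc, pow_add, mul_assoc]⟩)
  rwa [mul_sub, sub_add_sub_cancel] at this

theorem Coord.mul {φ : X →* Eˣ} {i h : ℕ} (hi : h ≤ i) {x y : X} {Y Z : E}
    (hx : Coord φ p i h x Y) (hy : Coord φ p i h y Z) : Coord φ p i h (x * y) (Y + Z) := by
  have h2 : (p : E) ^ (i + h) ∣ ((φ x : E) - 1) * ((φ y : E) - 1) :=
    (pow_dvd_pow _ (by omega)).trans (pp_dvd_mul hx.mem_lev hy.mem_lev)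
  rw [Coord, map_mul, Units.val_mul]
  convert dvd_add (dvd_add hx hy) h2 using 1
  simp only [sub_mul, mul_sub, one_mul, mul_one, mul_add]
  abel

theorem Coord.inv {φ : X →* Eˣ} {i h : ℕ} (hi : h ≤ i) {x : X} {Y : E} (hx : Coord φ p i h x Y) :
    Coord φ p i h x⁻¹ (-Y) := by
  have h2 : (p : E) ^ (i + h) ∣ ((φ x : E) - 1) * ((φ x⁻¹ : E) - 1) :=
    (pow_dvd_pow _ (by omega)).trans (pp_dvd_mul hx.mem_lev ((lev φ p i).inv_mem hx.mem_lev))
  rw [Coord]
  convert (dvd_add hx h2).neg_right using 1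
  rw [sub_mul, mul_sub, mul_sub, one_mul, one_mul, mul_one, ← Units.val_mul, ← map_mul,
    mul_inv_cancel, map_one, Units.val_one, mul_neg]
  abel

theorem exists_sq_mul (u : E) : ∀ n : ℕ, ∃ r, (1 + u) ^ n = 1 + n * u + u * u * r
  | 0 => ⟨0, by simp⟩
  | n + 1 => by
    obtain ⟨r, hr⟩ := exists_sq_mul u n
    refine ⟨n + r * (1 + u), ?_⟩
    rw [pow_succ, hr, Nat.cast_succ]
    simp only [mul_add, add_mul, mul_one, one_mul, mul_assoc, (Nat.cast_commute n (u * u)).eq]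
    abel

theorem Coord.pow {φ : X →* Eˣ} {i h : ℕ} (hi : h + 1 ≤ i) {x : X} {Y : E}
    (hx : Coord φ p i h x Y) : Coord φ p (i + 1) h (x ^ p) Y := by
  obtain ⟨r, hr⟩ := exists_sq_mul ((φ x : E) - 1) p
  rw [add_sub_cancel] at hr
  have hu : (p : E) ^ i ∣ (φ x : E) - 1 := hx.mem_lev
  have h1 : (p : E) ^ (1 + (i + h)) ∣ (p : E) * ((φ x : E) - 1 - (p : E) ^ i * Y) :=
    pp_dvd_mul (i := 1) (by rw [pow_one]) hx
  have h2 : (p : E) ^ (i + 1 + h) ∣ ((φ x : E) - 1) * ((φ x : E) - 1) * r :=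
    ((pow_dvd_pow _ (by omega)).trans (pp_dvd_mul hu hu)).trans (dvd_mul_right _ _)
  rw [show 1 + (i + h) = i + 1 + h by omega, mul_sub, ← mul_assoc, ← pow_succ'] at h1
  rw [Coord, map_pow, Units.val_pow_eq_pow_val, hr]
  convert dvd_add h1 h2 using 1
  abel

theorem pow_mem_lev {φ : X →* Eˣ} {i : ℕ} (hi : 1 ≤ i) {x : X} (hx : x ∈ lev φ p i) :
    x ^ p ∈ lev φ p (i + 1) := by
  obtain ⟨Y, hY⟩ := exists_coord 0 hx
  exact (hY.pow (by omega)).mem_lev

theorem Coord.commutator {φ : X →* Eˣ} {i h : ℕ} (hi : h ≤ i) {x y : X} {Y Z : E}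
    (hx : Coord φ p i h x Y) (hy : Coord φ p i h y Z) :
    Coord φ p (2 * i) h ⁅x, y⁆ (Y * Z - Z * Y) := by
  set u := (φ x : E) - 1
  set v := (φ y : E) - 1
  set w := (((φ x)⁻¹ * (φ y)⁻¹ : Eˣ) : E)
  have hw : (p : E) ^ i ∣ w - 1 := by
    have := (lev φ p i).mul_mem ((lev φ p i).inv_mem hx.mem_lev) ((lev φ p i).inv_mem hy.mem_lev)
    rwa [Alperin.mem_lev, map_mul, map_inv, map_inv] at this
  have key : ∀ {Y Z : E} {a b : E}, (p : E) ^ (i + h) ∣ a - (p : E) ^ i * Y →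
      (p : E) ^ (i + h) ∣ b - (p : E) ^ i * Z → (p : E) ^ i ∣ b →
      (p : E) ^ (2 * i + h) ∣ a * b - (p : E) ^ (2 * i) * (Y * Z) := by
    intro Y Z a b ha hb hb'
    rw [show a * b - (p : E) ^ (2 * i) * (Y * Z) =
      (a - (p : E) ^ i * Y) * b + ((p : E) ^ i * Y) * (b - (p : E) ^ i * Z) by
        have : (p : E) ^ i * Y * ((p : E) ^ i * Z) = (p : E) ^ (2 * i) * (Y * Z) := by
          rw [two_mul, pow_add, mul_assoc, ← mul_assoc Y, comm_pp]; simp only [mul_assoc]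
        rw [sub_mul, mul_sub, this, sub_add_sub_cancel]]
    refine dvd_add ?_ ?_
    · rw [show 2 * i + h = (i + h) + i by omega]
      exact pp_dvd_mul ha hb'
    · rw [show 2 * i + h = i + (i + h) by omega]
      exact pp_dvd_mul (dvd_mul_right _ Y) hb
  have h1 := dvd_sub (key hx hy hy.mem_lev) (key hy hx hx.mem_lev)
  have h2 : (p : E) ^ (2 * i + h) ∣ (u * v - v * u) * (w - 1) :=
    (pow_dvd_pow _ (by omega)).trans (pp_dvd_mul
      (dvd_sub (pp_dvd_mul hx.mem_lev hy.mem_lev) (pp_dvd_mul hy.mem_lev hx.mem_lev)) hw)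
  rw [Coord, commutator_sub_one]
  convert dvd_add h1 h2 using 1
  simp only [u, v, w, mul_sub, mul_one]
  abel

end CfsgLib.Alperin
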