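import Mathlib
import Cfsg.Agent.Lib.Alperin.Levels

/-!
# Coordinate groups of subgroups and uniform stretches of levels
-/

set_option autoImplicit false

namespace CfsgLib.Alperin

variable {E : Type*} [Ring E] {p k : ℕ} {X : Type*} [Group X] {φ : X →* Eˣ}

/-- The coordinates at level `i`, to precision `h`, of the elements of `H`. -/
def crd (φ : X →* Eˣ) (p : ℕ) (H : Subgroup X) (i h : ℕ) :
    AddSubgroup (E ⧸ ppIdeal E p h) :=
  AddSubgroup.closure {z | ∃ x ∈ H, ∃ Y, Coord φ p i h x Y ∧ Ideal.Quotient.mk _ Y = z}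

theorem mem_crd {H : Subgroup X} {i h : ℕ} (hi : h ≤ i) {z : E ⧸ ppIdeal E p h} :
    z ∈ crd φ p H i h ↔ ∃ x ∈ H, ∃ Y, Coord φ p i h x Y ∧ Ideal.Quotient.mk _ Y = z := by
  refine ⟨fun hz => ?_, fun hz => AddSubgroup.subset_closure hz⟩
  induction hz using AddSubgroup.closure_induction with
  | mem z hz => exact hz
  | zero => exact ⟨1, one_mem _, 0, coord_zero (one_mem _), map_zero _⟩
  | add z w _ _ hz hw =>
    obtain ⟨x, hx, Y, hY, rfl⟩ := hz
    obtain ⟨y, hy, Z, hZ, rfl⟩ := hw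
    exact ⟨x * y, mul_mem hx hy, Y + Z, hY.mul hi hZ, map_add _ _ _⟩
  | neg z _ hz =>
    obtain ⟨x, hx, Y, hY, rfl⟩ := hz
    exact ⟨x⁻¹, inv_mem hx, -Y, hY.inv hi, map_neg _ _⟩

theorem mk_mem_crd {H : Subgroup X} {i h : ℕ} {x : X} {Y : E} (hx : x ∈ H)
    (hY : Coord φ p i h x Y) : Ideal.Quotient.mk _ Y ∈ crd φ p H i h :=
  AddSubgroup.subset_closure ⟨x, hx, Y, hY, rfl⟩

theorem crd_mono {H K : Subgroup X} (h' : H ≤ K) (i h : ℕ) :
    crd φ p H i h ≤ crd φ p K i h := by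
  refine (AddSubgroup.closure_le _).2 ?_
  rintro z ⟨x, hx, Y, hY, rfl⟩
  exact mk_mem_crd (h' hx) hY

theorem crd_le_succ (H : Subgroup X) {i h : ℕ} (hi : h + 1 ≤ i) :
    crd φ p H i h ≤ crd φ p H (i + 1) h := by
  refine (AddSubgroup.closure_le _).2 ?_
  rintro z ⟨x, hx, Y, hY, rfl⟩
  exact mk_mem_crd (pow_mem hx p) (hY.pow hi)

theorem crd_le_of_le (H : Subgroup X) {i j h : ℕ} (hi : h + 1 ≤ i) (hij : i ≤ j) :
    crd φ p H i h ≤ crd φ p H j h := by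
  induction hij with
  | refl => exact le_rfl
  | @step m hm ih => exact ih.trans (crd_le_succ H (hi.trans hm))

theorem crd_eq_bot (T : Tors E p k) {H : Subgroup X} {i h : ℕ} (hk : i + h ≤ k)
    (hH : H ≤ lev φ p (i + h)) : crd φ p H i h = ⊥ := by
  refine le_bot_iff.1 ((AddSubgroup.closure_le _).2 ?_)
  rintro z ⟨x, hx, Y, hY, rfl⟩
  rw [SetLike.mem_coe, AddSubgroup.mem_bot, Ideal.Quotient.eq_zero_iff_mem, mem_ppIdeal]
  simpa using hY.unique T hk (coord_zero (hH hx))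

/-- A subgroup with full layers fills the levels. -/
theorem le_sup_lev {H K : Subgroup X} (hHK : H ≤ K) {b : ℕ} : ∀ (d c : ℕ), 1 ≤ c → c + d = b →
    (∀ j, c ≤ j → j < b → crd φ p K j 1 ≤ crd φ p H j 1) →
    K ⊓ lev φ p c ≤ (H ⊓ lev φ p c) ⊔ lev φ p b
  | 0, c, _, hcb, _ => fun z hz => (le_sup_right : lev φ p b ≤ _) (hcb ▸ hz.2)
  | d + 1, c, hc, hcb, hfull => fun z hz => by
    obtain ⟨Y, hY⟩ := exists_coord 1 hz.2
    obtain ⟨x, hx, Y', hY', e⟩ :=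
      (mem_crd (by omega)).1 (hfull c le_rfl (by omega) (mk_mem_crd hz.1 hY))
    have h0 : Coord φ p c 1 (x⁻¹ * z) (-Y' + Y) := (hY'.inv (by omega)).mul (by omega) hY
    have h1 : x⁻¹ * z ∈ lev φ p (c + 1) := h0.mem_of_dvd (by
      rw [neg_add_eq_sub]
      exact mk_eq_mk.1 e.symm)
    have h2 := le_sup_lev hHK d (c + 1) (by omega) (by omega)
      (fun j hj => hfull j (by omega)) ⟨K.mul_mem (K.inv_mem (hHK hx)) hz.1, h1⟩
    have h3 : H ⊓ lev φ p (c + 1) ⊔ lev φ p b ≤ H ⊓ lev φ p c ⊔ lev φ p b :=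
      sup_le_sup_right (inf_le_inf_left _ (lev_anti φ (Nat.le_succ c))) _
    have h4 := mul_mem ((le_sup_left : H ⊓ lev φ p c ≤ H ⊓ lev φ p c ⊔ lev φ p b)
      ⟨hx, hY'.mem_lev⟩) (h3 h2)
    rwa [mul_inv_cancel_left] at h4

/-- A subgroup whose layers are constant from `a` to `b`. -/
structure Stretch (φ : X →* Eˣ) (p : ℕ) (U : Subgroup X) (a b : ℕ) : Prop where
  two_le : 2 ≤ a
  le_lev : U ≤ lev φ p a
  const : ∀ j, a ≤ j → j + 1 < b → crd φ p U (j + 1) 1 ≤ crd φ p U j 1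

variable {U : Subgroup X} {a b : ℕ}

theorem Stretch.pow_fill (hU : Stretch φ p U a b) {j : ℕ} (hj : a ≤ j) (hjb : j + 1 ≤ b) :
    U ⊓ lev φ p (j + 1) ≤
      Subgroup.closure ((fun x => x ^ p) '' ((U ⊓ lev φ p j : Subgroup X) : Set X)) ⊔
        lev φ p b := by
  set H := Subgroup.closure ((fun x => x ^ p) '' ((U ⊓ lev φ p j : Subgroup X) : Set X))
  have h2 := hU.two_le
  have hHU : H ≤ U := by
    rw [Subgroup.closure_le]
    rintro _ ⟨x, hx, rfl⟩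
    exact pow_mem hx.1 p
  refine (le_sup_lev hHU (b - (j + 1)) (j + 1) (by omega) (by omega) ?_).trans
    (sup_le_sup_right inf_le_left _)
  intro l hl hlb
  obtain ⟨l', rfl⟩ : ∃ l', l = l' + 1 := ⟨l - 1, by omega⟩
  refine (hU.const l' (by omega) hlb).trans ((AddSubgroup.closure_le _).2 ?_)
  rintro z ⟨x, hx, Y, hY, rfl⟩
  exact mk_mem_crd (Subgroup.subset_closure
    ⟨x, ⟨hx, lev_anti φ (by omega) hY.mem_lev⟩, rfl⟩) (hY.pow (by omega))

theorem Stretch.crd_succ_le (hU : Stretch φ p U a b) (T : Tors E p k) (hbk : b ≤ k) {j h : ℕ}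
    (hj : a ≤ j) (hh : h + 1 ≤ j) (hb : j + 1 + h ≤ b) :
    crd φ p U (j + 1) h ≤ crd φ p U j h := by
  refine (AddSubgroup.closure_le _).2 ?_
  rintro z ⟨x, hx, Y, hY, rfl⟩
  have hm := hU.pow_fill hj (by omega) ⟨hx, hY.mem_lev⟩
  rw [Subgroup.mem_sup_of_normal_right] at hm
  obtain ⟨c, hc, n, hn, e⟩ := hm
  have key : ∃ Z, Coord φ p (j + 1) h c Z ∧
      Ideal.Quotient.mk (ppIdeal E p h) Z ∈ crd φ p U j h := by
    clear e
    induction hc using Subgroup.closure_induction with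
    | mem c hc =>
      obtain ⟨y, hy, rfl⟩ := hc
      obtain ⟨Z, hZ⟩ := exists_coord h hy.2
      exact ⟨Z, hZ.pow hh, mk_mem_crd hy.1 hZ⟩
    | one => exact ⟨0, coord_zero (one_mem _), by simp⟩
    | mul u v _ _ hu hv =>
      obtain ⟨Z, hZ, hZ'⟩ := hu
      obtain ⟨W, hW, hW'⟩ := hv
      exact ⟨Z + W, hZ.mul (by omega) hW, by rw [map_add]; exact add_mem hZ' hW'⟩
    | inv u _ hu =>
      obtain ⟨Z, hZ, hZ'⟩ := hu
      exact ⟨-Z, hZ.inv (by omega), by rw [map_neg]; exact neg_mem hZ'⟩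
  obtain ⟨Z, hZ, hZ'⟩ := key
  have h1 := hZ.mul (by omega) (coord_zero (i := j + 1) (h := h) (lev_anti φ hb hn))
  rw [e, add_zero] at h1
  rwa [SetLike.mem_coe, mk_eq_mk.2 (hY.unique T (by omega) h1)]

theorem Stretch.crd_eq (hU : Stretch φ p U a b) (T : Tors E p k) (hbk : b ≤ k) {i h : ℕ}
    (hi : a ≤ i) (hh : h + 1 ≤ i) : ∀ {j : ℕ}, i ≤ j → j + h ≤ b →
      crd φ p U j h = crd φ p U i h := by
  intro j hij
  induction hij with
  | refl => exact fun _ => rfl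
  | @step m hm ih =>
    intro hb
    rw [← ih (by omega)]
    exact le_antisymm (hU.crd_succ_le T hbk (hi.trans hm) (hh.trans hm) (by omega))
      (crd_le_succ U (hh.trans hm))

end CfsgLib.Alperin
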