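import Mathlib
import Cfsg.Agent.Lib.Alperin.Layers
import Cfsg.Agent.Lib.Alperin.Comm
import Cfsg.Agent.Lib.Alperin.Kreknin

/-!
# A uniform stretch whose derived subgroup fills the levels from `b₁` on has length `≤ C b₁`
-/

set_option autoImplicit false

namespace CfsgLib.Alperin

open scoped commutatorElement

-- associative rings as Lie rings
attribute [local instance] LieRing.ofAssociativeRing

variable {E : Type*} [Ring E] {p k : ℕ} {X : Type*} [Group X] {φ : X →* Eˣ} {U : Subgroup X}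
  {a b : ℕ}

theorem Coord.shift {i t h : ℕ} {x : X} {Y : E} (hY : Coord φ p (i + t) h x Y) :
    Coord φ p i h x ((p : E) ^ t * Y) := by
  rw [Coord, ← mul_assoc, ← pow_add]
  exact (pow_dvd_pow _ (by omega)).trans hY

theorem Coord.coarsen {i g h : ℕ} (hg : g ≤ h) {x : X} {Y : E} (hY : Coord φ p i h x Y) :
    Coord φ p i g x Y :=
  (pow_dvd_pow _ (by omega)).trans hY

theorem Coord.conj {α : MulAut X} {τ : Eˣ} (hτ : ∀ x, φ (α x) = τ * φ x * τ⁻¹) {i h : ℕ} {x : X}
    {Y : E} (hY : Coord φ p i h x Y) :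
    Coord φ p i h (α x) ((τ : E) * Y * (τ⁻¹ : Eˣ)) := by
  rw [Coord, hτ, Units.val_mul, Units.val_mul]
  convert (pp_dvd_mul_right hY (τ : E)).trans (dvd_mul_right _ ((τ⁻¹ : Eˣ) : E)) using 1
  rw [mul_sub, mul_sub, mul_one, sub_mul, sub_mul, Units.mul_inv,
    ← mul_assoc (τ : E) ((p : E) ^ i) Y, comm_pp]
  simp only [mul_assoc]

/-- The bound factor. -/
def stretchC (p m : ℕ) : ℕ := 4 * (2 ^ (2 ^ (p - 1) - 1) * (m + 2)) + 8

theorem Stretch.fill_commutator [Fact p.Prime] [Finite X] (hX : IsPGroup p X)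
    (hU : Stretch φ p U a b) {b₁ : ℕ} (hab : a ≤ b₁)
    (hfill : U ⊓ lev φ p b₁ ≤ ⁅U, U⁆ ⊔ lev φ p b) (r : ℕ) :
    U ⊓ lev φ p (b₁ + 2 * r) ≤
      ⁅U ⊓ lev φ p (a + r), U ⊓ lev φ p (a + r)⁆ ⊔ lev φ p b := by
  set A : ℕ → Subgroup U := fun j => (lev φ p j).subgroupOf U
  set g := QuotientGroup.mk' (A b)
  set W : ℕ → Subgroup (U ⧸ A b) := fun j => (A j).map g
  have hgb : ∀ {z : U}, (z : X) ∈ lev φ p b → g z = 1 := fun hz =>
    (QuotientGroup.eq_one_iff _).2 hz
  have hF : Filt W p a := by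
    refine ⟨hU.two_le, fun j => ?_, fun i j hij => ?_, fun i j _ _ => ?_, fun i hi => ?_⟩
    · exact Subgroup.Normal.map (inferInstanceAs ((lev φ p j).subgroupOf U).Normal) g
        (QuotientGroup.mk'_surjective _)
    · exact Subgroup.map_mono fun z hz => lev_anti φ hij hz
    · show ⁅(A i).map g, (A j).map g⁆ ≤ _
      rw [← Subgroup.map_commutator]
      refine Subgroup.map_mono (Subgroup.commutator_le.2 fun x hx y hy => ?_)
      exact lev_comm φ i j (Subgroup.commutator_mem_commutator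
        (show (x : X) ∈ lev φ p i from hx) (show (y : X) ∈ lev φ p j from hy))
    · have h2 := hU.two_le
      refine le_antisymm ?_ ?_
      · rintro _ ⟨z, hz, rfl⟩
        rcases Nat.lt_or_ge (i + 1) b with hib | hib
        · have hm := hU.pow_fill hi hib.le ⟨z.2, hz⟩
          rw [Subgroup.mem_sup_of_normal_right] at hm
          obtain ⟨c, hc, n, hn, e⟩ := hm
          have key : ∃ hc' : c ∈ U,
              g ⟨c, hc'⟩ ∈ Subgroup.closure ((fun x => x ^ p) '' (W i : Set (U ⧸ A b))) := by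
            clear e
            induction hc using Subgroup.closure_induction with
            | mem c hc =>
              obtain ⟨y, hy, rfl⟩ := hc
              exact ⟨pow_mem hy.1 p, Subgroup.subset_closure
                ⟨g ⟨y, hy.1⟩, Subgroup.mem_map_of_mem g hy.2, (map_pow g (⟨y, hy.1⟩ : U) p).symm⟩⟩
            | one => exact ⟨one_mem _, by
                show g 1 ∈ _
                rw [map_one]; exact one_mem _⟩
            | mul u v _ _ hu hv =>
              exact ⟨mul_mem hu.1 hv.1, by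
                show g (⟨u, hu.1⟩ * ⟨v, hv.1⟩) ∈ _
                rw [map_mul]; exact mul_mem hu.2 hv.2⟩
            | inv u _ hu =>
              exact ⟨inv_mem hu.1, by
                show g (⟨u, hu.1⟩⁻¹) ∈ _
                rw [map_inv]; exact inv_mem hu.2⟩
          obtain ⟨hc', hc''⟩ := key
          have hn' : n ∈ U := by
            rw [show n = c⁻¹ * z by rw [← e, inv_mul_cancel_left]]
            exact U.mul_mem (U.inv_mem hc') z.2
          have hz' : z = ⟨c, hc'⟩ * ⟨n, hn'⟩ := Subtype.ext e.symm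
          rw [hz', map_mul, hgb (z := ⟨n, hn'⟩) hn, mul_one]
          exact hc''
        · rw [hgb (lev_anti φ hib hz)]
          exact one_mem _
      · rw [Subgroup.closure_le]
        rintro _ ⟨_, ⟨z, hz, rfl⟩, rfl⟩
        exact ⟨z ^ p, pow_mem_lev (by omega) hz, map_pow g z p⟩
  have hQ : IsPGroup p (U ⧸ A b) :=
    (hX.to_subgroup U).of_surjective g (QuotientGroup.mk'_surjective _)
  have hle : W b₁ ≤ ⁅W a, W a⁆ := by
    rintro _ ⟨z, hz, rfl⟩
    have hm := hfill ⟨z.2, hz⟩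
    rw [Subgroup.mem_sup_of_normal_right] at hm
    obtain ⟨c, hc, n, hn, e⟩ := hm
    rw [← U.map_subtype_commutator] at hc
    obtain ⟨c', hc', rfl⟩ := hc
    have hn' : n ∈ U := by
      rw [show n = (c' : X)⁻¹ * z by rw [← e, U.coe_subtype, inv_mul_cancel_left]]
      exact U.mul_mem (U.inv_mem c'.2) z.2
    have hz' : z = c' * ⟨n, hn'⟩ := Subtype.ext e.symm
    have hWa : A a = ⊤ := eq_top_iff.2 fun x _ => hU.le_lev x.2
    rw [hz', map_mul, hgb (z := ⟨n, hn'⟩) hn, mul_one]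
    show g c' ∈ ⁅(A a).map g, (A a).map g⁆
    rw [← Subgroup.map_commutator, hWa]
    exact Subgroup.mem_map_of_mem g hc'
  intro z hz
  have h := le_comm_of_le hQ hF hab hle r (show g ⟨z, hz.1⟩ ∈ W (b₁ + 2 * r) from
    Subgroup.mem_map_of_mem g hz.2)
  change g ⟨z, hz.1⟩ ∈ ⁅(A (a + r)).map g, (A (a + r)).map g⁆ at h
  rw [← Subgroup.map_commutator] at h
  obtain ⟨c, hc, e⟩ := h
  have hd : (c⁻¹ * ⟨z, hz.1⟩ : U) ∈ A b := QuotientGroup.eq.1 e
  have hc2 : (c : X) ∈ ⁅U ⊓ lev φ p (a + r), U ⊓ lev φ p (a + r)⁆ := by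
    have := Subgroup.mem_map_of_mem U.subtype hc
    rwa [Subgroup.map_commutator, Subgroup.subgroupOf_map_subtype, inf_comm] at this
  have := Subgroup.mul_mem_sup hc2 (show (c : X)⁻¹ * z ∈ lev φ p b from hd)
  rwa [mul_inv_cancel_left] at this

theorem Stretch.length_le [Fact p.Prime] [Finite E] [Finite X] (T : Tors E p k)
    (hX : IsPGroup p X) {α : MulAut X} {τ : Eˣ} (hτ : ∀ x, φ (α x) = τ * φ x * τ⁻¹) {m : ℕ}
    (hα : Fix α p m) (hU : Stretch φ p U a b) (hUinv : Inv α U) (hbk : b ≤ k)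
    (hne : crd φ p U a 1 ≠ ⊥) {b₁ : ℕ} (hb₁ : 2 * a ≤ b₁)
    (hfill : U ⊓ lev φ p b₁ ≤ ⁅U, U⁆ ⊔ lev φ p b) : b ≤ stretchC p m * b₁ := by
  by_contra hlt
  push Not at hlt
  have h2 := hU.two_le
  obtain ⟨T₀, hT₀⟩ : ∃ T₀, T₀ = 2 ^ (2 ^ (p - 1) - 1) * (m + 2) := ⟨_, rfl⟩
  set s := 2 ^ (p - 1) - 1
  have hCb : 4 * (T₀ * b₁) + 8 * b₁ < b := by
    have : stretchC p m * b₁ = 4 * (T₀ * b₁) + 8 * b₁ := by rw [stretchC, ← hT₀]; ring
    omega
  obtain ⟨i, hi⟩ : ∃ i, i = T₀ * b₁ + b₁ + 2 := ⟨_, rfl⟩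
  obtain ⟨h, hh⟩ : ∃ h, h = i - 1 := ⟨_, rfl⟩
  obtain ⟨b', hb'⟩ : ∃ b', b' = b₁ - 2 * a := ⟨_, rfl⟩
  have hcrd : ∀ j, i ≤ j → j + h ≤ b → crd φ p U j h = crd φ p U i h :=
    fun j => hU.crd_eq T hbk (by omega) (by omega)
  set L₀ := crd φ p U i h
  let L : LieSubalgebra ℤ (E ⧸ ppIdeal E p h) :=
    { AddSubgroup.toIntSubmodule L₀ with
      lie_mem' := by
        intro u v hu hv
        obtain ⟨x, hx, Y, hY, rfl⟩ := (mem_crd (by omega)).1 hu
        obtain ⟨y, hy, Z, hZ, rfl⟩ := (mem_crd (by omega)).1 hv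
        have hm := mk_mem_crd (U.commutator_le_self (Subgroup.commutator_mem_commutator hx hy))
          (hY.commutator (by omega) hZ)
        rw [hcrd _ (by omega) (by omega), map_sub, map_mul, map_mul] at hm
        exact hm }
  have memL : ∀ z, z ∈ L ↔ z ∈ L₀ := fun z => Iff.rfl
  have : Finite (E ⧸ ppIdeal E p h) := Finite.of_surjective _ Ideal.Quotient.mk_surjective
  have : Finite L := Finite.of_injective (fun z => z.1) Subtype.val_injective
  -- the automorphism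
  set τ' : (E ⧸ ppIdeal E p h)ˣ := Units.map (Ideal.Quotient.mk (ppIdeal E p h)).toMonoidHom τ
  have hconjL : ∀ z ∈ L₀, (τ' : E ⧸ ppIdeal E p h) * z * (τ'⁻¹ : (E ⧸ ppIdeal E p h)ˣ) ∈ L₀ := by
    intro z hz
    obtain ⟨x, hx, Y, hY, rfl⟩ := (mem_crd (by omega)).1 hz
    have := mk_mem_crd (hUinv x hx) (hY.conj hτ)
    rw [map_mul, map_mul] at this
    exact this
  let σ : L →+ L :=
    { toFun := fun z => ⟨_, hconjL z.1 z.2⟩
      map_zero' := Subtype.ext (by simp)
      map_add' := fun u v => Subtype.ext (by simp [mul_add, add_mul]) }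
  have hσ : ∀ u v, σ ⁅u, v⁆ = ⁅σ u, σ v⁆ := fun u v => Subtype.ext (by
    show (τ' : E ⧸ ppIdeal E p h) * (u.1 * v.1 - v.1 * u.1) * _ = _ - _
    show _ = (τ' : E ⧸ ppIdeal E p h) * u.1 * (τ'⁻¹ : (E ⧸ ppIdeal E p h)ˣ) *
        ((τ' : E ⧸ ppIdeal E p h) * v.1 * (τ'⁻¹ : (E ⧸ ppIdeal E p h)ˣ)) -
      (τ' : E ⧸ ppIdeal E p h) * v.1 * (τ'⁻¹ : (E ⧸ ppIdeal E p h)ˣ) *
        ((τ' : E ⧸ ppIdeal E p h) * u.1 * (τ'⁻¹ : (E ⧸ ppIdeal E p h)ˣ))
    simp only [mul_sub, sub_mul, mul_assoc, Units.inv_mul_cancel_left])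
  let V : Subgroup X := U ⊓ lev φ p i
  have hex : ∀ x : V, ∃ Y, Coord φ p i h x.1 Y := fun x => exists_coord h x.2.2
  choose rep hrep using hex
  have huniq : ∀ (x : V) Y, Coord φ p i h x.1 Y →
      Ideal.Quotient.mk (ppIdeal E p h) Y = Ideal.Quotient.mk (ppIdeal E p h) (rep x) :=
    fun x Y hY => mk_eq_mk.2 (hY.unique T (by omega) (hrep x))
  let ψ : V →* Multiplicative L := MonoidHom.mk'
    (fun x => Multiplicative.ofAdd ⟨_, mk_mem_crd x.2.1 (hrep x)⟩) fun x y => by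
      rw [← ofAdd_add]
      congr 1
      refine Subtype.ext ?_
      show _ = Ideal.Quotient.mk (ppIdeal E p h) (rep x) + Ideal.Quotient.mk _ (rep y)
      rw [← map_add]
      exact (huniq (x * y) _ ((hrep x).mul (by omega) (hrep y))).symm
  have hVinv : Inv α V := hUinv.inf (lev_inv φ hτ i)
  have hψ : ∀ x, Multiplicative.ofAdd (σ (ψ x).toAdd) = ψ (restr α V hVinv x) := fun x => by
    refine congrArg Multiplicative.ofAdd (Subtype.ext ?_)
    show (τ' : E ⧸ ppIdeal E p h) * Ideal.Quotient.mk _ (rep x) * _ =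
      Ideal.Quotient.mk _ (rep (restr α V hVinv x))
    rw [← huniq (restr α V hVinv x) _ ((hrep x).conj hτ), map_mul, map_mul]
    rfl
  have hψs : Function.Surjective ψ := by
    intro z
    obtain ⟨x, hx, Y, hY, e⟩ := (mem_crd (by omega)).1 z.toAdd.2
    exact ⟨⟨x, hx, hY.mem_lev⟩, congrArg Multiplicative.ofAdd
      (Subtype.ext ((huniq ⟨x, hx, hY.mem_lev⟩ Y hY).symm.trans e))⟩
  have hσinj : Function.Injective σ := fun u v huv => by
    have := congrArg Subtype.val huv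
    exact Subtype.ext ((Units.mul_right_inj τ').1 ((Units.mul_left_inj τ'⁻¹).1 this))
  let β : MulAut (Multiplicative L) :=
    AddEquiv.toMultiplicative (AddEquiv.ofBijective σ ⟨hσinj, Finite.surjective_of_injective hσinj⟩)
  have hβ : Fix β p m := (hα.restr V hVinv).of_surjective ψ hψs hψ
  have hσk : ∀ (n : ℕ) (z : L), ((β ^ n) (Multiplicative.ofAdd z)).toAdd = σ^[n] z := by
    intro n
    induction n with
    | zero => exact fun z => rfl
    | succ n ih =>
      intro z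
      rw [pow_succ', MulAut.mul_apply, Function.iterate_succ_apply', ← ih]
      rfl
  have hσp : ∀ z, σ^[p] z = z := fun z => by
    rw [← hσk, hβ.pow]
    rfl
  have hph : ∀ z : L, p ^ h • z = 0 := fun z => by
    obtain ⟨x, hx, Y, hY, e⟩ := (mem_crd (by omega)).1 z.2
    refine Subtype.ext ?_
    show p ^ h • z.1 = 0
    rw [← e, ← map_nsmul, Ideal.Quotient.eq_zero_iff_mem, mem_ppIdeal, nsmul_eq_mul, Nat.cast_pow]
    exact dvd_mul_right _ _
  have hfix : ∀ z, σ z = z → p ^ m • z = 0 := by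
    intro z hz
    have hmul : ∀ n : ℕ, σ (n • z) = n • z := fun n => by rw [map_nsmul, hz]
    have hle : addOrderOf z ≤ m := by
      rw [← Nat.card_fin (addOrderOf z)]
      refine le_trans (Nat.card_le_card_of_injective
        (fun n : Fin (addOrderOf z) =>
          (⟨Multiplicative.ofAdd (n.1 • z), congrArg Multiplicative.ofAdd (hmul n.1)⟩ :
            {w // β w = w})) fun u v huv => ?_) hβ.card
      exact Fin.ext (nsmul_injOn_Iio_addOrderOf u.2 v.2
        (Multiplicative.ofAdd.injective (congrArg Subtype.val huv)))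
    obtain ⟨e, -, he⟩ := (Nat.dvd_prime_pow Fact.out).1 (addOrderOf_dvd_of_nsmul_eq_zero (hph z))
    have : e ≤ m := (Nat.le_of_lt (Nat.lt_pow_self (Fact.out : p.Prime).one_lt)).trans (he ▸ hle)
    exact addOrderOf_dvd_iff_nsmul_eq_zero.1 (he ▸ pow_dvd_pow p this)
  -- the derived ring is almost the whole ring
  have hperf : ∀ z : L, p ^ b' • z ∈ lieDer L 1 := by
    intro z
    have hz := z.2
    rw [memL, ← hcrd (2 * i + b') (by omega) (by omega)] at hz
    obtain ⟨x, hx, Y, hY, e⟩ := (mem_crd (by omega)).1 hz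
    have hx2 := hY.mem_lev
    rw [show 2 * i + b' = b₁ + 2 * (i - a) by omega] at hx2
    have hm := hU.fill_commutator hX (by omega) hfill (i - a) ⟨hx, hx2⟩
    rw [Subgroup.mem_sup_of_normal_right, Nat.add_sub_cancel' (show a ≤ i by omega),
      Subgroup.commutator_def] at hm
    obtain ⟨c, hc, n, hn, ecn⟩ := hm
    have key : ∃ Z, Coord φ p (2 * i) h c Z ∧
        ∃ w ∈ lieDer L 1, w.1 = Ideal.Quotient.mk (ppIdeal E p h) Z := by
      clear ecn
      induction hc using Subgroup.closure_induction with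
      | mem c hc =>
        obtain ⟨u, hu, v, hv, rfl⟩ := hc
        obtain ⟨Y₁, hY₁⟩ := exists_coord h hu.2
        obtain ⟨Y₂, hY₂⟩ := exists_coord h hv.2
        refine ⟨_, hY₁.commutator (by omega) hY₂,
          ⁅(⟨_, mk_mem_crd hu.1 hY₁⟩ : L), ⟨_, mk_mem_crd hv.1 hY₂⟩⁆,
          AddSubgroup.subset_closure ⟨_, AddSubgroup.mem_top _, _, AddSubgroup.mem_top _, rfl⟩, ?_⟩
        rw [map_sub, map_mul, map_mul]
        rfl
      | one => exact ⟨0, coord_zero (one_mem _), 0, zero_mem _, by simp⟩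
      | mul u v _ _ hu hv =>
        obtain ⟨Z, hZ, w, hw, ew⟩ := hu
        obtain ⟨Z', hZ', w', hw', ew'⟩ := hv
        exact ⟨Z + Z', hZ.mul (by omega) hZ', w + w', add_mem hw hw', by
          rw [map_add, ← ew, ← ew']; rfl⟩
      | inv u _ hu =>
        obtain ⟨Z, hZ, w, hw, ew⟩ := hu
        exact ⟨-Z, hZ.inv (by omega), -w, neg_mem hw, by rw [map_neg, ← ew]; rfl⟩
    obtain ⟨Z, hZ, w, hw, ew⟩ := key
    have h1 := hZ.mul (by omega)
      (coord_zero (i := 2 * i) (h := h) (lev_anti φ (by omega) hn))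
    rw [ecn, add_zero] at h1
    have h3 := mk_eq_mk.2 (hY.shift.unique T (by omega) h1)
    have : p ^ b' • z = w := Subtype.ext (by
      show p ^ b' • z.1 = w.1
      rw [← e, ew, ← map_nsmul, ← h3, nsmul_eq_mul, Nat.cast_pow])
    rw [this]
    exact hw
  have hder : ∀ n, ∀ z : L, p ^ ((2 ^ n - 1) * b') • z ∈ lieDer L n := by
    intro n
    induction n with
    | zero => exact fun z => AddSubgroup.mem_top _
    | succ n ih =>
      intro z
      rw [show (2 ^ (n + 1) - 1) * b' = (2 ^ n - 1) * b' + (2 ^ n - 1) * b' + b' by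
        have := Nat.one_le_two_pow (n := n)
        obtain ⟨t, ht⟩ : ∃ t, 2 ^ n = t + 1 := ⟨2 ^ n - 1, by omega⟩
        rw [pow_succ, ht]
        simp only [Nat.add_sub_cancel, show (t + 1) * 2 - 1 = 2 * t + 1 by omega]
        ring, pow_add, mul_smul]
      have hw : ∀ w ∈ lieDer L 1,
          p ^ ((2 ^ n - 1) * b' + (2 ^ n - 1) * b') • w ∈ lieDer L (n + 1) := by
        intro w hw
        induction hw using AddSubgroup.closure_induction with
        | mem w hw =>
          obtain ⟨u, -, v, -, rfl⟩ := hw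
          refine AddSubgroup.subset_closure ⟨_, ih u, _, ih v, ?_⟩
          rw [nsmul_lie, lie_nsmul, smul_smul, ← pow_add]
        | zero => rw [smul_zero]; exact zero_mem _
        | add u v _ _ hu hv => rw [smul_add]; exact add_mem hu hv
        | neg u _ hu => rw [smul_neg]; exact neg_mem hu
      exact hw _ (hperf z)
  -- a coordinate not divisible by `p`
  obtain ⟨z₁, hz₁, hz₁0⟩ : ∃ z₁ ∈ crd φ p U i 1, z₁ ≠ 0 := by
    rw [hU.crd_eq T hbk le_rfl (by omega) (show a ≤ i by omega) (by omega)]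
    by_contra hc
    push Not at hc
    exact hne ((AddSubgroup.eq_bot_iff_forall _).2 hc)
  obtain ⟨x, hx, Y, hY, rfl⟩ := (mem_crd (by omega)).1 hz₁
  have hz₀ := lieDer_torsion σ hσ hσp (p ^ m) hfix
    (hder s ⟨_, mk_mem_crd hx (hrep ⟨x, hx, hY.mem_lev⟩)⟩)
  rw [smul_smul, ← pow_succ, ← pow_mul, ← pow_add] at hz₀
  have hz₀' := congrArg Subtype.val hz₀
  change p ^ _ • Ideal.Quotient.mk (ppIdeal E p h) (rep ⟨x, hx, hY.mem_lev⟩) = 0 at hz₀'
  rw [← map_nsmul, Ideal.Quotient.eq_zero_iff_mem, mem_ppIdeal, nsmul_eq_mul, Nat.cast_pow] at hz₀'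
  set e := (m + 1) * 2 ^ s + (2 ^ s - 1) * b'
  have he : e < h := by
    have h3 : (m + 1) * 2 ^ s ≤ 2 ^ s * (m + 1) * b₁ := by
      rw [mul_comm (m + 1)]
      exact Nat.le_mul_of_pos_right _ (by omega)
    have h4 : (2 ^ s - 1) * b' ≤ 2 ^ s * b₁ := Nat.mul_le_mul (Nat.sub_le _ _) (by omega)
    have h5 : T₀ * b₁ = 2 ^ s * (m + 1) * b₁ + 2 ^ s * b₁ := by rw [hT₀]; ring
    omega
  refine hz₁0 ?_
  rw [Ideal.Quotient.eq_zero_iff_mem, mem_ppIdeal]
  have h6 := T.dvd_cancel he.le (by omega) hz₀'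
  have h7 := hY.unique T (by omega) ((hrep ⟨x, hx, hY.mem_lev⟩).coarsen (show 1 ≤ h by omega))
  simpa using dvd_add h7 ((pow_dvd_pow _ (show 1 ≤ h - e by omega)).trans h6)

end CfsgLib.Alperin
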