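import Mathlib
import Cfsg.Agent.Lib.Alperin.Key

/-!
# Derived length of `p`-groups of units with few fixed points of an automorphism
-/

set_option autoImplicit false

namespace CfsgLib.Alperin

/-- The bound for at most `N + 1` coordinates in each layer. -/
def dlLay (p m : ℕ) : ℕ → ℕ
  | 0 => 0
  | N + 1 => dlLay p m N + (1 + dlLay p m N + stretchC p m)

variable {E : Type*} [Ring E] [Finite E] {p k : ℕ} [Fact p.Prime] {X : Type*} [Group X] [Finite X]
  {φ : X →* Eˣ} {α : MulAut X} {τ : Eˣ} {m : ℕ}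

theorem der_le_lev (T : Tors E p k) (hX : IsPGroup p X) (hτ : ∀ x, φ (α x) = τ * φ x * τ⁻¹)
    (hα : Fix α p m) : ∀ (N : ℕ) (b : ℕ), b ≤ k → ∀ H : Subgroup X, Inv α H → H ≤ lev φ p 2 →
      (∀ j, 2 ≤ j → j < b → Nat.card (crd φ p H j 1) ≤ N + 1) →
      der H (dlLay p m N) ≤ lev φ p b := by
  intro N
  have : Finite (E ⧸ ppIdeal E p 1) := Finite.of_surjective _ Ideal.Quotient.mk_surjective
  induction N with
  | zero =>
    intro b _ H _ hH2 hcard x hx
    rcases le_or_gt b 2 with hb | hb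
    · exact lev_anti φ hb (hH2 hx)
    have hfull : ∀ j, 2 ≤ j → j < b → crd φ p H j 1 ≤ crd φ p (⊥ : Subgroup X) j 1 := by
      intro j hj hjb
      rw [AddSubgroup.eq_bot_of_card_le _ (hcard j hj hjb)]
      exact bot_le
    have := le_sup_lev bot_le (b - 2) 2 (by omega) (by omega) hfull ⟨hx, hH2 hx⟩
    rwa [bot_inf_eq, bot_sup_eq] at this
  | succ N ih =>
    intro b hbk H hHinv hH2 hcard
    by_cases hex : ∃ j, 2 ≤ j ∧ j < b ∧ N + 1 < Nat.card (crd φ p H j 1)
    swap
    · push Not at hex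
      exact le_trans (der_le_of_le (ih b hbk H hHinv hH2 fun j h1 h2 => hex j h1 h2))
        (der_le_self _ _)
    classical
    obtain ⟨a, ha, hamin⟩ : ∃ a, (2 ≤ a ∧ a < b ∧ N + 1 < Nat.card (crd φ p H a 1)) ∧
        ∀ j < a, ¬(2 ≤ j ∧ j < b ∧ N + 1 < Nat.card (crd φ p H j 1)) :=
      ⟨Nat.find hex, Nat.find_spec hex, fun j => Nat.find_min hex⟩
    obtain ⟨ha2, hab, hacard⟩ := ha
    set U := H ⊓ lev φ p a
    have h1 : der H (dlLay p m N) ≤ U :=
      le_inf (der_le_self _ _) (ih a (by omega) H hHinv hH2 fun j hj hja => by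
        have := hamin j hja
        push Not at this
        exact this hj (by omega))
    have hUinv : Inv α U := hHinv.inf (lev_inv φ hτ a)
    have hcU : ∀ j, a ≤ j → crd φ p U j 1 = crd φ p H j 1 := by
      intro j hj
      refine le_antisymm (crd_mono inf_le_left j 1) ((AddSubgroup.closure_le _).2 ?_)
      rintro z ⟨x, hx, Y, hY, rfl⟩
      exact mk_mem_crd ⟨hx, lev_anti φ hj hY.mem_lev⟩ hY
    have hconst : ∀ j, a ≤ j → j < b → crd φ p U a 1 = crd φ p U j 1 := by
      intro j hj hjb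
      refine AddSubgroup.eq_of_le_of_card_ge (crd_le_of_le U (by omega) hj) ?_
      rw [hcU j hj, hcU a le_rfl]
      have := hcard j (ha2.trans hj) hjb
      omega
    have hS : Stretch φ p U a b :=
      ⟨ha2, inf_le_right, fun j hj hjb => by rw [← hconst j hj (by omega), ← hconst (j + 1) (by omega) hjb]⟩
    set U' := ⁅U, U⁆
    have hU'inv : Inv α U' := hUinv.commutator hUinv
    have hU'2a : U' ≤ lev φ p (a + a) :=
      (Subgroup.commutator_mono inf_le_right inf_le_right).trans (lev_comm φ a a)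
    have hU'2 : U' ≤ lev φ p 2 := hU'2a.trans (lev_anti φ (by omega))
    show der H (dlLay p m N + (1 + dlLay p m N + stretchC p m)) ≤ _
    refine (der_le_of_le h1).trans ?_
    rw [show 1 + dlLay p m N + stretchC p m = (dlLay p m N + stretchC p m) + 1 by omega, der_succ']
    by_cases hex' : ∃ j, 2 ≤ j ∧ j < b ∧ N + 1 < Nat.card (crd φ p U' j 1)
    swap
    · push Not at hex'
      exact le_trans (der_le_of_le (ih b hbk U' hU'inv hU'2 fun j h1 h2 => hex' j h1 h2))
        (der_le_self _ _)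
    obtain ⟨b₁, hb₁, hb₁min⟩ : ∃ b₁, (2 ≤ b₁ ∧ b₁ < b ∧ N + 1 < Nat.card (crd φ p U' b₁ 1)) ∧
        ∀ j < b₁, ¬(2 ≤ j ∧ j < b ∧ N + 1 < Nat.card (crd φ p U' j 1)) :=
      ⟨Nat.find hex', Nat.find_spec hex', fun j => Nat.find_min hex'⟩
    obtain ⟨hb2, hb1b, hb1card⟩ := hb₁
    have hb1a : 2 * a ≤ b₁ := by
      by_contra hlt
      rw [crd_eq_bot T (by omega) (hU'2a.trans (lev_anti φ (by omega))), AddSubgroup.card_bot]
        at hb1card
      omega
    have hne : crd φ p U a 1 ≠ ⊥ := by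
      intro h
      rw [← hcU a le_rfl, h, AddSubgroup.card_bot] at hacard
      omega
    have hfill : U ⊓ lev φ p b₁ ≤ ⁅U, U⁆ ⊔ lev φ p b := by
      refine (le_sup_lev (U.commutator_le_self) (b - b₁) b₁ (by omega) (by omega) ?_).trans
        (sup_le_sup_right inf_le_left _)
      intro j hj hjb
      refine le_of_eq (AddSubgroup.eq_of_le_of_card_ge (crd_mono U.commutator_le_self j 1) ?_).symm
      refine le_trans ?_ (AddSubgroup.card_le_of_le (crd_le_of_le U' (by omega) hj))
      rw [hcU j (by omega)]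
      have := hcard j (by omega) hjb
      omega
    have hlen := hS.length_le T hX hτ hα hUinv hbk hne hb1a hfill
    have h3 : der U' (dlLay p m N) ≤ lev φ p b₁ := ih b₁ (by omega) U' hU'inv hU'2 fun j hj hjb => by
      have := hb₁min j hjb
      push Not at this
      exact this hj (by omega)
    refine (der_le_of_le h3).trans ((der_lev_le φ b₁ _).trans (lev_anti φ (hlen.trans ?_)))
    exact Nat.mul_le_mul_right _ (Nat.lt_two_pow_self).le

theorem derivedSeries_le_ker_units (T : Tors E p k) (hX : IsPGroup p X)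
    (hτ : ∀ x, φ (α x) = τ * φ x * τ⁻¹) (hα : Fix α p m) {N : ℕ}
    (hN : Nat.card (E ⧸ ppIdeal E p 2) ≤ N) :
    derivedSeries X (N + dlLay p m N) ≤ φ.ker := by
  have : Finite (E ⧸ ppIdeal E p 2) := Finite.of_surjective _ Ideal.Quotient.mk_surjective
  have hN1 : Nat.card (E ⧸ ppIdeal E p 1) ≤ N := by
    have hle : ppIdeal E p 2 ≤ ppIdeal E p 1 := fun x hx =>
      mem_ppIdeal.2 ((pow_dvd_pow _ (by omega)).trans (mem_ppIdeal.1 hx))
    refine le_trans (Nat.card_le_card_of_surjective (Ideal.Quotient.factor hle) ?_) hN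
    exact Ideal.Quotient.factor_surjective hle
  have : Finite (E ⧸ ppIdeal E p 1) := Finite.of_surjective _ Ideal.Quotient.mk_surjective
  have hnil : Group.IsNilpotent X := hX.isNilpotent
  have h2 : derivedSeries X N ≤ lev φ p 2 := by
    let f : X →* (E ⧸ ppIdeal E p 2)ˣ :=
      (Units.map (Ideal.Quotient.mk (ppIdeal E p 2)).toMonoidHom).comp φ
    have hc : Nat.card f.range ≤ N := le_trans (Nat.card_le_card_of_injective
      (fun u : f.range => ((u.1 : (E ⧸ ppIdeal E p 2)ˣ) : E ⧸ ppIdeal E p 2))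
      fun u v huv => Subtype.ext (Units.ext huv)) hN
    refine (derivedSeries_le_ker inferInstance f hc).trans fun x hx => ?_
    exact mk_eq_mk.1 ((congrArg Units.val (MonoidHom.mem_ker.1 hx)).trans (map_one _).symm)
  rw [← der_top] at h2 ⊢
  refine (der_le_of_le h2).trans ?_
  have hle := der_le_lev T hX hτ hα N k le_rfl (lev φ p 2) (lev_inv φ hτ 2) le_rfl fun j _ _ =>
    ((Nat.card_le_card_of_injective _ Subtype.val_injective).trans hN1).trans (Nat.le_succ N)
  refine hle.trans fun x hx => ?_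
  rw [mem_lev, T.pow_zero', zero_dvd_iff, sub_eq_zero] at hx
  exact Units.ext hx

end CfsgLib.Alperin
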