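import Mathlib
import Cfsg.Agent.Lib.Alperin.Linear

/-!
# Derived length of `p`-groups with an automorphism of order `p` with few fixed points
-/

set_option autoImplicit false

namespace CfsgLib.Alperin

universe v

section Restrict

variable {A : Type*} [AddCommGroup A]

/-- A subgroup mapped into itself by every endomorphism. -/
def FullyInv (S : AddSubgroup A) : Prop := ∀ f : AddMonoid.End A, ∀ a ∈ S, f a ∈ S

theorem fullyInv_ker (n : ℕ) : FullyInv (nsmulAddMonoidHom (α := A) n).ker := fun f a ha => by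
  rw [AddMonoidHom.mem_ker, nsmulAddMonoidHom_apply] at ha ⊢
  rw [← map_nsmul, ha, map_zero]

theorem fullyInv_range (n : ℕ) : FullyInv (nsmulAddMonoidHom (α := A) n).range := by
  rintro f _ ⟨a, rfl⟩
  exact ⟨f a, by simp only [nsmulAddMonoidHom_apply, map_nsmul]⟩

/-- Restriction of endomorphisms to a fully invariant subgroup. -/
def restrEnd (S : AddSubgroup A) (hS : FullyInv S) : AddMonoid.End A →* AddMonoid.End S where
  toFun f := AddMonoidHom.mk' (fun a => ⟨f a.1, hS f a.1 a.2⟩)
    fun a b => Subtype.ext (map_add f a.1 b.1)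
  map_one' := AddMonoidHom.ext fun _ => rfl
  map_mul' _ _ := AddMonoidHom.ext fun _ => rfl

end Restrict

/-- The bound for homocyclic groups of rank at most `D`. -/
def dlHom (p m D : ℕ) : ℕ := (p ^ 2) ^ (D * D) + dlLay p m ((p ^ 2) ^ (D * D))

/-- The bound for abelian groups of rank at most `D`. -/
def dlLin (p m : ℕ) : ℕ → ℕ
  | 0 => 0
  | D + 1 => dlHom p m (D + 1) + dlLin p m D + 1

section Matrix

variable {n d : ℕ}

/-- Additive endomorphisms of `(ZMod n)^d` as matrices. -/
noncomputable def toMat :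
    AddMonoid.End (Fin d → ZMod n) →* Matrix (Fin d) (Fin d) (ZMod n) where
  toFun f := LinearMap.toMatrix' (AddMonoidHom.toZModLinearMap n f)
  map_one' := by
    rw [show AddMonoidHom.toZModLinearMap n (1 : AddMonoid.End (Fin d → ZMod n)) = LinearMap.id from
      LinearMap.ext fun _ => rfl, LinearMap.toMatrix'_id]
  map_mul' f g := by
    rw [show AddMonoidHom.toZModLinearMap n (f * g) =
      (AddMonoidHom.toZModLinearMap n f).comp (AddMonoidHom.toZModLinearMap n g) from
      LinearMap.ext fun _ => rfl, LinearMap.toMatrix'_comp]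

theorem toMat_injective : Function.Injective (toMat (n := n) (d := d)) := fun f g h => by
  have := LinearMap.toMatrix'.injective h
  exact AddMonoidHom.ext fun x => LinearMap.congr_fun this x

variable {p k : ℕ}

theorem tors_matrix [Fact p.Prime] (hk : 1 ≤ k) :
    Tors (Matrix (Fin d) (Fin d) (ZMod (p ^ k))) p k := by
  refine ⟨?_, fun x hx => ?_⟩
  · rw [← Nat.cast_pow, ← map_natCast (Matrix.scalar (Fin d)), ZMod.natCast_self, map_zero]
  have key : ∀ z : ZMod (p ^ k), p • z = 0 → ∃ y, z = p ^ (k - 1) • y := by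
    intro z hz
    have : NeZero (p ^ k) := ⟨pow_ne_zero _ (Fact.out : p.Prime).ne_zero⟩
    rw [nsmul_eq_mul, ← ZMod.natCast_zmod_val z, ← Nat.cast_mul,
      ZMod.natCast_eq_zero_iff] at hz
    have hd : p ^ (k - 1) ∣ z.val := by
      refine Nat.dvd_of_mul_dvd_mul_left (Fact.out : p.Prime).pos ((dvd_of_eq ?_).trans hz)
      rw [← pow_succ', Nat.sub_add_cancel hk]
    obtain ⟨y, hy⟩ := hd
    exact ⟨(y : ZMod (p ^ k)), by
      rw [← ZMod.natCast_zmod_val z, hy, Nat.cast_mul, nsmul_eq_mul]⟩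
  rw [← nsmul_eq_mul] at hx
  choose y hy using fun i j => key (x i j) (congrFun (congrFun hx i) j)
  refine ⟨Matrix.of y, ?_⟩
  rw [← Nat.cast_pow, ← nsmul_eq_mul]
  exact Matrix.ext fun i j => hy i j

theorem card_matrix_quot [Fact p.Prime] :
    Nat.card (Matrix (Fin d) (Fin d) (ZMod (p ^ k)) ⧸
      ppIdeal (Matrix (Fin d) (Fin d) (ZMod (p ^ k))) p 2) ≤ (p ^ 2) ^ (d * d) := by
  have : NeZero (p ^ k) := ⟨pow_ne_zero _ (Fact.out : p.Prime).ne_zero⟩
  have hp2 : 0 < p ^ 2 := pow_pos (Fact.out : p.Prime).pos 2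
  refine le_trans (Nat.card_le_card_of_surjective
    (fun r : Fin d → Fin d → Fin (p ^ 2) => Ideal.Quotient.mk _
      (Matrix.of fun i j => ((r i j).1 : ZMod (p ^ k)))) ?_) (le_of_eq ?_)
  · intro z
    obtain ⟨M, rfl⟩ := Ideal.Quotient.mk_surjective z
    refine ⟨fun i j => ⟨(M i j).val % p ^ 2, Nat.mod_lt _ hp2⟩, mk_eq_mk.2 ?_⟩
    refine ⟨-Matrix.of fun i j => (((M i j).val / p ^ 2 : ℕ) : ZMod (p ^ k)), ?_⟩
    rw [← Nat.cast_pow, ← nsmul_eq_mul]
    refine Matrix.ext fun i j => ?_
    simp only [Matrix.sub_apply, Matrix.smul_apply, Matrix.neg_apply, Matrix.of_apply, smul_neg,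
      nsmul_eq_mul]
    conv_lhs => rw [← ZMod.natCast_zmod_val (M i j)]
    rw [← Nat.cast_mul, eq_neg_iff_add_eq_zero, sub_add_eq_add_sub, sub_eq_zero, ← Nat.cast_add,
      ZMod.val_natCast_of_lt (ZMod.val_lt _), Nat.mod_add_div]
  · simp [pow_mul]

end Matrix

variable {p m : ℕ} [Fact p.Prime] {X : Type*} [Group X] [Finite X] {α : MulAut X}

theorem exists_card_ker (B : Type*) [AddCommGroup B] [Finite B] :
    ∃ d, Nat.card (nsmulAddMonoidHom (α := B) p).ker = p ^ d :=
  (IsPGroup.iff_card (p := p) (G := Multiplicative (nsmulAddMonoidHom (α := B) p).ker)).1 fun a =>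
    ⟨1, Multiplicative.toAdd.injective (Subtype.ext (by
      rw [pow_one]
      exact a.toAdd.2))⟩

theorem exists_generators {V : Type*} [AddCommGroup V] [Finite V] {d : ℕ}
    (hexp : ∀ z : V, p • z = 0) (hcard : Nat.card V = p ^ d) :
    ∃ g : Fin d → V, ∀ v : V, ∃ c : Fin d → ℕ, v = ∑ i, c i • g i := by
  classical
  have : Fintype V := Fintype.ofFinite V
  have hp := (Fact.out : p.Prime)
  obtain ⟨instM⟩ : Nonempty (Module (ZMod p) V) := ⟨AddCommGroup.zmodModule hexp⟩
  have hrank : Module.finrank (ZMod p) V = d := by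
    have h := Module.card_eq_pow_finrank (K := ZMod p) (V := V)
    rw [← Nat.card_eq_fintype_card, hcard, ZMod.card] at h
    exact (Nat.pow_right_injective hp.two_le h).symm
  obtain ⟨bas⟩ : Nonempty (Module.Basis (Fin d) (ZMod p) V) :=
    ⟨(Module.finBasis (ZMod p) V).reindex (finCongr hrank)⟩
  refine ⟨bas, fun v => ⟨fun i => (bas.repr v i).val, ?_⟩⟩
  conv_lhs => rw [← bas.sum_repr v]
  refine Finset.sum_congr rfl fun i _ => ?_
  rw [← Nat.cast_smul_eq_nsmul (ZMod p), ZMod.natCast_zmod_val]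

theorem exists_equiv_of_homocyclic {A : Type*} [AddCommGroup A] [Finite A] {k : ℕ}
    (hexp : ∀ a : A, p ^ k • a = 0) {d : ℕ}
    (hd : Nat.card (nsmulAddMonoidHom (α := A) p).ker = p ^ d) (hcard : Nat.card A = (p ^ d) ^ k) :
    Nonempty (A ≃+ (Fin d → ZMod (p ^ k))) := by
  classical
  set R := (nsmulAddMonoidHom (α := A) p).range
  have hq : Nat.card (A ⧸ R) = p ^ d := by
    have h1 := R.card_eq_card_quotient_mul_card_addSubgroup
    have h2 := (nsmulAddMonoidHom (α := A) p).ker.card_mul_index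
    rw [AddSubgroup.index_ker, hd] at h2
    rw [← h2] at h1
    exact Nat.eq_of_mul_eq_mul_right Nat.card_pos h1.symm
  have hqexp : ∀ z : A ⧸ R, p • z = 0 := fun z => by
    obtain ⟨a, rfl⟩ := QuotientAddGroup.mk_surjective z
    rw [← QuotientAddGroup.mk_nsmul, QuotientAddGroup.eq_zero_iff]
    exact ⟨a, rfl⟩
  obtain ⟨g, hg⟩ := exists_generators hqexp hq
  choose e he using fun i => QuotientAddGroup.mk_surjective (g i)
  let F : Fin d → (ZMod (p ^ k) →+ A) := fun i =>
    ZMod.lift (p ^ k) ⟨zmultiplesHom A (e i), by simp only [zmultiplesHom_apply, natCast_zsmul, hexp]⟩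
  have hF : ∀ i (z : ℤ), F i z = z • e i := fun i z => by
    simp only [F, ZMod.lift_coe, zmultiplesHom_apply]
  let ψ : (Fin d → ZMod (p ^ k)) →+ A :=
    ∑ i, (F i).comp (Pi.evalAddMonoidHom (fun _ : Fin d => ZMod (p ^ k)) i)
  have hψ : ∀ v, ψ v = ∑ i, F i (v i) := fun v => by simp [ψ]
  have hstep : ∀ a : A, ∃ v, ∃ a', a = ψ v + p • a' := by
    intro a
    obtain ⟨c, hc⟩ := hg (a : A ⧸ R)
    refine ⟨fun i => (((c i : ℕ) : ℤ) : ZMod (p ^ k)), ?_⟩
    suffices a - ψ (fun i => (((c i : ℕ) : ℤ) : ZMod (p ^ k))) ∈ R by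
      obtain ⟨a', ha'⟩ := this
      exact ⟨a', by
        rw [show p • a' = nsmulAddMonoidHom p a' from rfl, ha', add_sub_cancel]⟩
    rw [← QuotientAddGroup.eq_zero_iff, QuotientAddGroup.mk_sub, sub_eq_zero, hψ, hc,
      ← QuotientAddGroup.mk'_apply R (∑ i, _), map_sum]
    refine Finset.sum_congr rfl fun i _ => ?_
    simp only [hF, natCast_zsmul, map_nsmul, QuotientAddGroup.mk'_apply, he]
  have hiter : ∀ (j : ℕ) (a : A), ∃ v, ∃ a', a = ψ v + p ^ j • a' := by
    intro j
    induction j with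
    | zero => exact fun a => ⟨0, a, by simp⟩
    | succ j ih =>
      intro a
      obtain ⟨v, a', rfl⟩ := ih a
      obtain ⟨w, a'', rfl⟩ := hstep a'
      exact ⟨v + p ^ j • w, a'', by rw [map_add, map_nsmul, smul_add, smul_smul, ← pow_succ]; abel⟩
  have hsurj : Function.Surjective ψ := fun a => by
    obtain ⟨v, a', rfl⟩ := hiter k a
    exact ⟨v, by rw [hexp, add_zero]⟩
  have : NeZero (p ^ k) := ⟨pow_ne_zero _ (Fact.out : p.Prime).ne_zero⟩
  have hbij : Function.Bijective ψ := by
    refine (Function.Surjective.bijective_of_nat_card_le hsurj ?_)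
    rw [hcard, Nat.card_fun, Nat.card_zmod, Nat.card_fin, ← pow_mul, ← pow_mul, mul_comm]
  exact ⟨(AddEquiv.ofBijective ψ hbij).symm⟩

theorem dl_homocyclic {A : Type*} [AddCommGroup A] [Finite A] (hX : IsPGroup p X)
    (hα : Fix α p m) (φ : X →* (AddMonoid.End A)ˣ) {τ : (AddMonoid.End A)ˣ}
    (hτ : ∀ x, φ (α x) = τ * φ x * τ⁻¹) {k : ℕ} (hk : 1 ≤ k)
    (hexp : ∀ a : A, p ^ k • a = 0) {d D : ℕ} (hdD : d ≤ D)
    (hd : Nat.card (nsmulAddMonoidHom (α := A) p).ker = p ^ d) (hcard : Nat.card A = (p ^ d) ^ k) :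
    derivedSeries X (dlHom p m D) ≤ φ.ker := by
  obtain ⟨e⟩ := exists_equiv_of_homocyclic hexp hd hcard
  have : NeZero (p ^ k) := ⟨pow_ne_zero _ (Fact.out : p.Prime).ne_zero⟩
  let conjE : AddMonoid.End A →* AddMonoid.End (Fin d → ZMod (p ^ k)) :=
    { toFun := fun f => (e.toAddMonoidHom.comp f).comp e.symm.toAddMonoidHom
      map_one' := AddMonoidHom.ext fun v => e.apply_symm_apply v
      map_mul' := fun f g => AddMonoidHom.ext fun v => by
        show e (f (g (e.symm v))) = e (f (e.symm (e (g (e.symm v)))))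
        rw [e.symm_apply_apply] }
  let Θ : (AddMonoid.End A)ˣ →* (Matrix (Fin d) (Fin d) (ZMod (p ^ k)))ˣ :=
    Units.map (toMat.comp conjE)
  have hΘ : Function.Injective Θ := fun u v h => by
    refine Units.ext (AddMonoidHom.ext fun a => e.injective ?_)
    have h1 : conjE u.1 = conjE v.1 := toMat_injective (congrArg Units.val h)
    have h2 := DFunLike.congr_fun h1 (e a)
    change e (u.1 (e.symm (e a))) = e (v.1 (e.symm (e a))) at h2
    rwa [e.symm_apply_apply] at h2
  have h := derivedSeries_le_ker_units (tors_matrix hk) hX (φ := Θ.comp φ) (α := α) (τ := Θ τ)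
    (fun x => by simp only [MonoidHom.comp_apply, hτ, map_mul, map_inv]) hα
    (N := (p ^ 2) ^ (D * D))
    (card_matrix_quot.trans (Nat.pow_le_pow_right (pow_pos (Fact.out : p.Prime).pos 2)
      (Nat.mul_le_mul hdD hdD)))
  exact h.trans fun x hx => hΘ ((MonoidHom.mem_ker.1 hx).trans (map_one Θ).symm)

theorem dl_linear (hX : IsPGroup p X) (hα : Fix α p m) : ∀ (D : ℕ) {A : Type v}
    [AddCommGroup A] [Finite A] (e : ℕ), (∀ a : A, p ^ e • a = 0) →
    Nat.card (nsmulAddMonoidHom (α := A) p).ker ≤ p ^ D →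
    ∀ (φ : X →* (AddMonoid.End A)ˣ) (τ : (AddMonoid.End A)ˣ),
    (∀ x, φ (α x) = τ * φ x * τ⁻¹) → derivedSeries X (dlLin p m D) ≤ φ.ker := by
  intro D
  induction D with
  | zero =>
    intro A _ _ e hexp hD φ τ _ x _
    have htriv : ∀ (j : ℕ) (a : A), p ^ j • a = 0 → a = 0 := by
      intro j
      induction j with
      | zero => intro a ha; simpa using ha
      | succ j ih =>
        intro a ha
        rw [pow_succ', mul_smul] at ha
        have h0 : p ^ j • a = 0 :=
          (AddSubgroup.eq_bot_iff_forall _).1 (AddSubgroup.eq_bot_of_card_le _ hD) _ ha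
        exact ih a h0
    exact Units.ext (AddMonoidHom.ext fun a => (htriv e _ (hexp _)).trans (htriv e _ (hexp _)).symm)
  | succ D ih =>
    intro A _ _ e hexp hD φ τ hτ
    classical
    let K : ℕ → AddSubgroup A := fun j => (nsmulAddMonoidHom (α := A) (p ^ j)).ker
    have hK : ∀ j a, a ∈ K j ↔ p ^ j • a = 0 := fun j a => Iff.rfl
    obtain ⟨d, hd⟩ := exists_card_ker (p := p) A
    have hdD : d ≤ D + 1 := (Nat.pow_le_pow_iff_right (Fact.out : p.Prime).one_lt).1 (hd ▸ hD)
    have hK1 : Nat.card (K 1) = (p ^ d) ^ 1 := by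
      rw [pow_one, ← hd]
      simp only [K, pow_one]
    set k := Nat.findGreatest (fun j => Nat.card (K j) = (p ^ d) ^ j) (e + 1)
    have hk : Nat.card (K k) = (p ^ d) ^ k :=
      Nat.findGreatest_spec (P := fun j => Nat.card (K j) = (p ^ d) ^ j) (by omega) hK1
    have hk1 : 1 ≤ k := Nat.le_findGreatest (by omega) hK1
    let φ₁ := (Units.map (restrEnd (K k) (fullyInv_ker _))).comp φ
    have hker : Nat.card (nsmulAddMonoidHom (α := K k) p).ker = p ^ d := by
      rw [← hd]
      refine Nat.card_congr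
        { toFun := fun z => ⟨z.1.1, congrArg Subtype.val z.2⟩
          invFun := fun z => ⟨⟨z.1, ?_⟩, Subtype.ext z.2⟩
          left_inv := fun z => rfl
          right_inv := fun z => rfl }
      show p ^ k • z.1 = 0
      rw [← Nat.sub_add_cancel hk1, pow_succ, mul_smul, show p • z.1 = 0 from z.2, smul_zero]
    have h1 : derivedSeries X (dlHom p m (D + 1)) ≤ φ₁.ker :=
      dl_homocyclic hX hα φ₁ (τ := Units.map (restrEnd (K k) (fullyInv_ker _)) τ)
        (fun x => by simp only [φ₁, MonoidHom.comp_apply, hτ, map_mul, map_inv]) hk1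
        (fun a => Subtype.ext a.2) hdD hker hk
    by_cases htop : ∀ a : A, p ^ k • a = 0
    · refine ((derivedSeries_antitone X (show dlHom p m (D + 1) ≤ dlLin p m (D + 1) by
        simp only [dlLin]; omega)).trans h1).trans fun x hx => ?_
      refine Units.ext (AddMonoidHom.ext fun a => ?_)
      exact congrArg Subtype.val
        (DFunLike.congr_fun (congrArg Units.val (MonoidHom.mem_ker.1 hx)) ⟨a, htop a⟩)
    have hke : k < e := by
      by_contra hle
      push Not at hle
      exact htop fun a => by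
        rw [← Nat.sub_add_cancel hle, pow_add, mul_smul, hexp, smul_zero]
    set R := (nsmulAddMonoidHom (α := A) (p ^ k)).range
    let φ₂ := (Units.map (restrEnd R (fullyInv_range _))).comp φ
    have hR : Nat.card (nsmulAddMonoidHom (α := R) p).ker ≤ p ^ D := by
      obtain ⟨d', hd'⟩ := exists_card_ker (p := p) R
      rw [show Nat.card (nsmulAddMonoidHom (α := R) p).ker = p ^ d' from hd']
      refine Nat.pow_le_pow_right (Fact.out : p.Prime).pos ?_
      let g : K (k + 1) →+ (nsmulAddMonoidHom (α := R) p).ker :=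
        AddMonoidHom.mk' (fun a => ⟨⟨p ^ k • a.1, a.1, rfl⟩, Subtype.ext (by
          show p • p ^ k • a.1 = 0
          rw [smul_smul, ← pow_succ']; exact a.2)⟩)
          fun a b => Subtype.ext (Subtype.ext (smul_add _ a.1 b.1))
      have hgs : Function.Surjective g := by
        rintro ⟨⟨_, a, rfl⟩, hz⟩
        refine ⟨⟨a, ?_⟩, rfl⟩
        rw [hK, pow_succ', mul_smul]
        exact congrArg Subtype.val hz
      have h2 := g.ker.card_mul_index
      rw [AddSubgroup.index_ker, AddMonoidHom.range_eq_top.2 hgs, AddSubgroup.card_top,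
        show Nat.card (nsmulAddMonoidHom (α := R) p).ker = p ^ d' from hd'] at h2
      have h3 : Nat.card g.ker = Nat.card (K k) := Nat.card_congr
        { toFun := fun z => ⟨z.1.1, congrArg Subtype.val (congrArg Subtype.val (show g z.1 = 0 from z.2))⟩
          invFun := fun z => ⟨⟨z.1, by
            rw [hK, pow_succ', mul_smul, (hK k z.1).1 z.2, smul_zero]⟩,
            Subtype.ext (Subtype.ext z.2)⟩
          left_inv := fun z => rfl
          right_inv := fun z => rfl }
      by_contra hlt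
      have hd'' : d ≤ d' := by omega
      have hgle : Nat.card (nsmulAddMonoidHom (α := R) p).ker ≤ p ^ d := by
        rw [← hd]
        refine Nat.card_le_card_of_injective (fun z => ⟨z.1.1, congrArg Subtype.val z.2⟩) ?_
        exact fun a b hab => Subtype.ext (Subtype.ext (congrArg (fun w => w.1) hab))
      rw [show Nat.card (nsmulAddMonoidHom (α := R) p).ker = p ^ d' from hd',
        Nat.pow_le_pow_iff_right (Fact.out : p.Prime).one_lt] at hgle
      have hsucc : Nat.card (K (k + 1)) = (p ^ d) ^ (k + 1) := by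
        rw [← h2, h3, hk, show d' = d by omega, pow_succ]
      exact Nat.findGreatest_is_greatest (P := fun j => Nat.card (K j) = (p ^ d) ^ j)
        (Nat.lt_succ_self k) (by omega) hsucc
    have h2 : derivedSeries X (dlLin p m D) ≤ φ₂.ker :=
      ih e (fun a => Subtype.ext (hexp a.1)) hR φ₂ (Units.map (restrEnd R (fullyInv_range _)) τ)
        fun x => by simp only [φ₂, MonoidHom.comp_apply, hτ, map_mul, map_inv]
    show derivedSeries X (dlHom p m (D + 1) + dlLin p m D + 1) ≤ _
    rw [derivedSeries_succ]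
    have hle : derivedSeries X (dlHom p m (D + 1) + dlLin p m D) ≤ φ₁.ker ⊓ φ₂.ker :=
      le_inf ((derivedSeries_antitone X (Nat.le_add_right _ _)).trans h1)
        ((derivedSeries_antitone X (Nat.le_add_left _ _)).trans h2)
    refine (Subgroup.commutator_mono hle hle).trans (Subgroup.commutator_le.2 fun x hx y hy => ?_)
    have hδ : ∀ z ∈ φ₁.ker ⊓ φ₂.ker, ∀ a : A, ∃ c : A, p ^ k • c = 0 ∧ (φ z).1 a = a + c := by
      intro z hz a
      refine ⟨(φ z).1 a - a, ?_, (add_sub_cancel a _).symm⟩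
      rw [smul_sub, ← map_nsmul, sub_eq_zero]
      exact congrArg Subtype.val
        (DFunLike.congr_fun (congrArg Units.val (MonoidHom.mem_ker.1 hz.2)) ⟨p ^ k • a, a, rfl⟩)
    have hid : ∀ z ∈ φ₁.ker ⊓ φ₂.ker, ∀ c : A, p ^ k • c = 0 → (φ z).1 c = c := fun z hz c hc =>
      congrArg Subtype.val
        (DFunLike.congr_fun (congrArg Units.val (MonoidHom.mem_ker.1 hz.1)) (⟨c, hc⟩ : K k))
    have hcomm : Commute (φ x) (φ y) := by
      refine Units.ext (AddMonoidHom.ext fun a => ?_)
      show (φ x).1 ((φ y).1 a) = (φ y).1 ((φ x).1 a)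
      obtain ⟨c, hc, ec⟩ := hδ y hy a
      obtain ⟨c', hc', ec'⟩ := hδ x hx a
      rw [ec, ec', map_add, map_add, hid x hx c hc, hid y hy c' hc', ec, ec']
      abel
    rw [MonoidHom.mem_ker, map_commutatorElement]
    exact commutatorElement_eq_one_iff_commute.2 hcomm

end CfsgLib.Alperin
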