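import Mathlib
import Cfsg.Agent.Lib.Alperin.PGroup
import Cfsg.Agent.Lib.Critical.Basic

/-!
# Maximal invariant abelian normal subgroups; the bound for `p`-groups
-/

set_option autoImplicit false

namespace CfsgLib.Alperin

variable {X : Type*} [Group X]

/-- An `α`-invariant abelian normal subgroup that is maximal such. -/
structure MaxAb (α : MulAut X) (A : Subgroup X) : Prop where
  normal : A.Normal
  inv : Inv α A
  comm : ∀ x ∈ A, ∀ y ∈ A, x * y = y * x
  max : ∀ B : Subgroup X, B.Normal → Inv α B → (∀ x ∈ B, ∀ y ∈ B, x * y = y * x) → A ≤ B → B ≤ A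

theorem exists_maxAb [Finite X] (α : MulAut X) : ∃ A, MaxAb α A := by
  obtain ⟨A, hA⟩ := (Set.toFinite {A : Subgroup X | A.Normal ∧ Inv α A ∧
      ∀ x ∈ A, ∀ y ∈ A, x * y = y * x}).exists_maximal
    ⟨⊥, inferInstance, inv_of_char α ⊥, fun x hx y hy => by
      rw [Subgroup.mem_bot.1 hx, Subgroup.mem_bot.1 hy]⟩
  exact ⟨A, hA.1.1, hA.1.2.1, hA.1.2.2, fun B h1 h2 h3 h4 => hA.2 ⟨h1, h2, h3⟩ h4⟩

/-- The conjugation action on a normal subgroup, as endomorphisms. -/
noncomputable def conjEnd (A : Subgroup X) [A.Normal] : X →* AddMonoid.End (Additive A) where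
  toFun x := MonoidHom.toAdditive (MulAut.conjNormal x : MulAut A).toMonoidHom
  map_one' := AddMonoidHom.ext fun a => by
    exact congrArg Additive.ofMul (show (MulAut.conjNormal (1 : X) : MulAut A) a.toMul = a.toMul by
      rw [map_one]; rfl)
  map_mul' x y := AddMonoidHom.ext fun a => by
    exact congrArg Additive.ofMul (show (MulAut.conjNormal (x * y) : MulAut A) a.toMul =
        (MulAut.conjNormal x : MulAut A) ((MulAut.conjNormal y : MulAut A) a.toMul) by
      rw [map_mul]; rfl)

/-- An automorphism as a unit of the endomorphism ring. -/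
noncomputable def autEnd {A : Type*} [CommGroup A] : MulAut A →* AddMonoid.End (Additive A) where
  toFun f := MonoidHom.toAdditive f.toMonoidHom
  map_one' := AddMonoidHom.ext fun _ => rfl
  map_mul' _ _ := AddMonoidHom.ext fun _ => rfl

/-- The bound for `p`-groups. -/
def dlP (p m : ℕ) : ℕ := dlLin p m (p * m) + 1

theorem derivedSeries_pgroup [Finite X] {p m : ℕ} [Fact p.Prime] (hX : IsPGroup p X)
    {α : MulAut X} (hα : Fix α p m) : derivedSeries X (dlP p m) = ⊥ := by
  obtain ⟨A, hA⟩ := exists_maxAb α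
  have := hA.normal
  let _ : CommGroup A := { (inferInstance : Group A) with
    mul_comm := fun u v => Subtype.ext (hA.comm u.1 u.2 v.1 v.2) }
  have hC : Subgroup.centralizer (A : Set X) ≤ A := by
    by_contra hne
    set C := Subgroup.centralizer (A : Set X) with hCdef
    have hCinv : Inv α C := fun g hg a ha => by
      obtain ⟨b, hb, rfl⟩ : ∃ b ∈ A, α b = a :=
        ⟨α.symm a, hA.inv.mem_iff.1 (by rwa [MulEquiv.apply_symm_apply]), α.apply_symm_apply a⟩
      rw [← map_mul, ← map_mul, hg b hb]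
    set q := QuotientGroup.mk' A
    set Ā := C.map q
    have hĀn : Ā.Normal := Subgroup.Normal.map inferInstance q (QuotientGroup.mk'_surjective A)
    have hĀne : Ā ≠ ⊥ := fun h => hne (by
      rwa [Subgroup.map_eq_bot_iff, QuotientGroup.ker_mk'] at h)
    set β := quot α A hA.inv
    have hQ : IsPGroup p (X ⧸ A) := hX.of_surjective q (QuotientGroup.mk'_surjective A)
    have := hĀn
    -- `Ā` meets the centre
    set Z := Ā ⊓ Subgroup.center (X ⧸ A)
    have hZne : Z ≠ ⊥ := by
      intro hbot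
      have := hQ.isNilpotent
      exact CfsgLib.Critical.inf_center_ne_bot Ā hĀne hbot
    have hZinv : Inv β Z :=
      (hCinv.map q (quot_mk α A hA.inv)).inf (inv_of_char β (Subgroup.center (X ⧸ A)))
    have hZp : p ∣ Nat.card Z := by
      obtain ⟨n, hn⟩ := IsPGroup.iff_card.1 (hQ.to_subgroup Z)
      rcases n with _ | n
      · exact absurd (Subgroup.eq_bot_of_card_eq _ (by simpa using hn)) hZne
      · exact hn ▸ dvd_pow_self p n.succ_ne_zero
    let γ := restr β Z hZinv
    have hγ : γ ^ p = 1 := ((hα.quot A hA.inv).restr Z hZinv).pow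
    obtain ⟨z, hz, hz1⟩ : ∃ z : Z, γ z = z ∧ z ≠ 1 := by
      have hpg : IsPGroup p (Subgroup.zpowers γ) := by
        rintro ⟨w, n, rfl⟩
        refine ⟨1, Subtype.ext ?_⟩
        show (γ ^ n) ^ (p ^ 1) = 1
        rw [pow_one, ← zpow_natCast, ← zpow_mul, mul_comm, zpow_mul, zpow_natCast, hγ, one_zpow]
      obtain ⟨b, hb, hb1⟩ := hpg.exists_fixed_point_of_prime_dvd_card_of_fixed_point Z hZp
        (a := 1) (fun σ => map_one (σ : MulAut Z))
      exact ⟨b, hb ⟨γ, Subgroup.mem_zpowers γ⟩, hb1.symm⟩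
    obtain ⟨x, hx, hxz⟩ := z.2.1
    set B := (Subgroup.zpowers z.1).comap q
    have hmem : ∀ u ∈ B, ∃ a ∈ A, ∃ n : ℤ, u = x ^ n * a := by
      intro u hu
      obtain ⟨n, hn⟩ := Subgroup.mem_zpowers_iff.1 hu
      rw [← hxz, ← map_zpow] at hn
      exact ⟨(x ^ n)⁻¹ * u, QuotientGroup.eq.1 hn, n, by group⟩
    have hBn : B.Normal := by
      refine Subgroup.Normal.comap ⟨fun w hw g => ?_⟩ q
      have : Commute g w := by
        obtain ⟨n, rfl⟩ := Subgroup.mem_zpowers_iff.1 hw
        exact Commute.zpow_right (Subgroup.mem_center_iff.1 z.2.2 g) n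
      rwa [this.eq, mul_inv_cancel_right]
    have hBinv : Inv α B := by
      refine Inv.comap q (quot_mk α A hA.inv) fun w hw => ?_
      obtain ⟨n, rfl⟩ := Subgroup.mem_zpowers_iff.1 hw
      rw [map_zpow, show β z.1 = z.1 from congrArg Subtype.val hz]
      exact hw
    have hBcomm : ∀ u ∈ B, ∀ v ∈ B, u * v = v * u := by
      intro u hu v hv
      obtain ⟨a, ha, n, rfl⟩ := hmem u hu
      obtain ⟨b, hb, l, rfl⟩ := hmem v hv
      have c1 : ∀ w ∈ A, ∀ j : ℤ, Commute (x ^ j) w := fun w hw j =>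
        Commute.zpow_left (show Commute x w from (hx w hw).symm) j
      exact (((Commute.refl x).zpow_zpow n l).mul_right (c1 b hb n)).mul_left
        ((c1 a ha l).symm.mul_right (hA.comm a ha b hb))
    have hAB : A ≤ B := fun a ha => by
      rw [Subgroup.mem_comap, show q a = 1 from (QuotientGroup.eq_one_iff a).2 ha]
      exact one_mem _
    have hxA : x ∈ A := hA.max B hBn hBinv hBcomm hAB
      (Subgroup.mem_comap.2 (by rw [hxz]; exact Subgroup.mem_zpowers _))
    exact hz1 (Subtype.ext (hxz.symm.trans ((QuotientGroup.eq_one_iff x).2 hxA)))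
  let φ : X →* (AddMonoid.End (Additive A))ˣ := (conjEnd A).toHomUnits
  let αA : MulAut A := restr α A hA.inv
  let τ : (AddMonoid.End (Additive A))ˣ := autEnd.toHomUnits αA
  have hτ : ∀ x, φ (α x) = τ * φ x * τ⁻¹ := fun x => by
    rw [eq_mul_inv_iff_mul_eq]
    refine Units.ext (AddMonoidHom.ext fun a => congrArg Additive.ofMul (Subtype.ext ?_))
    show α x * α a.toMul.1 * (α x)⁻¹ = α (x * a.toMul.1 * x⁻¹)
    rw [map_mul, map_mul, map_inv]
  have hker : φ.ker ≤ A := fun x hx => hC fun a ha => by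
    have h := congrArg (fun w : Additive A => w.toMul.1)
      (DFunLike.congr_fun (congrArg Units.val (MonoidHom.mem_ker.1 hx)) (Additive.ofMul ⟨a, ha⟩))
    change x * a * x⁻¹ = a at h
    exact (mul_inv_eq_iff_eq_mul.1 h).symm
  obtain ⟨e, he⟩ := IsPGroup.iff_card.1 hX
  have hexp : ∀ a : Additive A, p ^ e • a = 0 := fun a => by
    refine Additive.toMul.injective (Subtype.ext ?_)
    show a.toMul.1 ^ p ^ e = 1
    rw [← he, pow_card_eq_one']
  have hrank : Nat.card (nsmulAddMonoidHom (α := Additive A) p).ker ≤ p ^ (p * m) := by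
    let K := (nsmulAddMonoidHom (α := Additive A) p).ker
    let σ : AddMonoid.End K := restrEnd K (fullyInv_ker p) τ.1
    have hτp : τ.1 ^ p = 1 := by
      show (autEnd.toHomUnits αA).1 ^ p = 1
      rw [MonoidHom.coe_toHomUnits, ← map_pow, (hα.restr A hA.inv).pow, map_one]
    refine (card_le_of_exponent_prime (Fact.out : p.Prime) σ ?_ (fun z => Subtype.ext z.2)
      ((Nat.card_le_card_of_injective (fun z => (⟨z.1.1.toMul.1, ?_⟩ : {g : X // α g = g})) ?_).trans
        hα.card)).trans ?_
    · rw [← map_pow, hτp, map_one]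
    · exact congrArg (fun w : K => w.1.toMul.1) z.2
    · intro u v huv
      exact Subtype.ext (Subtype.ext (Additive.toMul.injective (Subtype.ext
        (congrArg (fun w : {g : X // α g = g} => w.1) huv))))
    · rw [mul_comm, pow_mul]
      exact Nat.pow_le_pow_left (Nat.lt_pow_self (Fact.out : p.Prime).one_lt).le p
  have h := (dl_linear hX hα (p * m) e hexp hrank φ τ hτ).trans hker
  show derivedSeries X (dlLin p m (p * m) + 1) = ⊥
  rw [derivedSeries_succ, eq_bot_iff]
  refine (Subgroup.commutator_mono h h).trans (Subgroup.commutator_le.2 fun a ha b hb => ?_)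
  rw [Subgroup.mem_bot, commutatorElement_eq_one_iff_mul_comm]
  exact hA.comm a ha b hb

end CfsgLib.Alperin
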