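import Mathlib

/-!
# A finite reduced commutative ring is bounded by the fixed ring of an automorphism of order `p`
-/

set_option autoImplicit false

namespace CfsgLib.Alperin

open Polynomial

variable {R : Type*} [CommRing R] [Finite R] {p : ℕ} [Fact p.Prime] (σ : R →+* R)

theorem card_quotient_prime_le (hσ : ∀ x, σ^[p] x = x) {M : ℕ}
    (hM : Nat.card {x : R // σ x = x} ≤ M) (I : Ideal R) [I.IsPrime] :
    Nat.card (R ⧸ I) ≤ p * M ^ p := by
  classical
  have : Finite (R ⧸ I) := Finite.of_surjective _ Ideal.Quotient.mk_surjective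
  have : Fintype (R ⧸ I) := Fintype.ofFinite _
  have : Fintype {x : R // σ x = x} := Fintype.ofFinite _
  let P : R → R[X] := fun x => ∏ i : ZMod p, (X - C (σ^[i.val] x))
  have hfix : ∀ x l, σ ((P x).coeff l) = (P x).coeff l := by
    intro x l
    rw [← coeff_map]
    congr 1
    simp only [P, Polynomial.map_prod, Polynomial.map_sub, map_X, map_C]
    refine Fintype.prod_equiv (Equiv.addRight (1 : ZMod p)) _ _ fun i => ?_
    congr 2
    rw [Equiv.coe_addRight, ← Function.iterate_succ_apply' σ, ZMod.val_add, ZMod.val_one]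
    rcases Nat.lt_or_ge (i.val + 1) p with h | h
    · rw [Nat.mod_eq_of_lt h]
    · have := ZMod.val_lt i
      rw [show i.val.succ = p by omega, hσ, show i.val + 1 = p by omega, Nat.mod_self]
      rfl
  have hmonic : ∀ x, (P x).Monic := fun x => monic_prod_of_monic _ _ fun i _ => monic_X_sub_C _
  have hdeg : ∀ x, (P x).natDegree = p := by
    intro x
    have : Nontrivial R := (Ideal.Quotient.mk I).domain_nontrivial
    simp only [P]
    rw [natDegree_prod_of_monic _ _ fun i _ => monic_X_sub_C _]
    simp [ZMod.card]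
  choose rep hrep using (Ideal.Quotient.mk_surjective : Function.Surjective (Ideal.Quotient.mk I))
  let f : R ⧸ I → (Fin p → {x : R // σ x = x}) := fun y l => ⟨(P (rep y)).coeff l, hfix _ _⟩
  have hroot : ∀ y, ((P (rep y)).map (Ideal.Quotient.mk I)).IsRoot y := by
    intro y
    rw [IsRoot, eval_map, ← hrep y, eval₂_at_apply, hrep y]
    simp only [P, eval_prod, eval_sub, eval_X, eval_C]
    rw [Finset.prod_eq_zero (Finset.mem_univ (0 : ZMod p)) (by simp), map_zero]
  have h1 := Finset.card_le_mul_card_image (s := (Finset.univ : Finset (R ⧸ I))) (f := f) p ?_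
  · rw [Finset.card_univ, ← Nat.card_eq_fintype_card] at h1
    refine h1.trans (Nat.mul_le_mul_left p ((Finset.card_le_univ _).trans ?_))
    rw [Fintype.card_fun, Fintype.card_fin, ← Nat.card_eq_fintype_card]
    exact Nat.pow_le_pow_left hM p
  · intro b hb
    obtain ⟨y₀, -, hy₀⟩ := Finset.mem_image.1 hb
    set Q := (P (rep y₀)).map (Ideal.Quotient.mk I)
    have hQ : Q ≠ 0 := ((hmonic _).map _).ne_zero
    refine le_trans (Finset.card_le_card (t := Q.roots.toFinset) fun y hy => ?_)
      ((Multiset.toFinset_card_le _).trans ((card_roots' Q).trans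
        (natDegree_map_le.trans (hdeg _).le)))
    rw [Multiset.mem_toFinset, mem_roots hQ]
    have hPeq : P (rep y) = P (rep y₀) := by
      refine Polynomial.ext fun l => ?_
      rcases lt_trichotomy l p with hl | rfl | hl
      · have h2 := congrFun ((Finset.mem_filter.1 hy).2.trans hy₀.symm) ⟨l, hl⟩
        exact congrArg Subtype.val h2
      · conv_lhs => rw [← hdeg (rep y), (hmonic _).coeff_natDegree]
        conv_rhs => rw [← hdeg (rep y₀), (hmonic _).coeff_natDegree]
      · rw [coeff_eq_zero_of_natDegree_lt (by rw [hdeg]; exact hl),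
          coeff_eq_zero_of_natDegree_lt (by rw [hdeg]; exact hl)]
    show Q.IsRoot y
    rw [show Q = (P (rep y)).map (Ideal.Quotient.mk I) by rw [hPeq]]
    exact hroot y

theorem card_primes_le (hσ : ∀ x, σ^[p] x = x) {M : ℕ} (hM : Nat.card {x : R // σ x = x} ≤ M) :
    Nat.card {I : Ideal R // I.IsPrime} ≤ p * 2 ^ M := by
  classical
  have : Finite (Ideal R) := Finite.of_injective (fun I => (I : Set R)) SetLike.coe_injective
  have : Fintype {I : Ideal R // I.IsPrime} := Fintype.ofFinite _
  have : Fintype {x : R // σ x = x} := Fintype.ofFinite _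
  let f : {I : Ideal R // I.IsPrime} → Set {x : R // σ x = x} := fun I => {x | x.1 ∈ I.1}
  have hp := (Fact.out : p.Prime)
  have h1 := Finset.card_le_mul_card_image (s := (Finset.univ : Finset {I : Ideal R // I.IsPrime}))
    (f := f) p ?_
  · rw [Finset.card_univ, ← Nat.card_eq_fintype_card] at h1
    refine h1.trans (Nat.mul_le_mul_left p ((Finset.card_le_univ _).trans ?_))
    rw [Fintype.card_set, ← Nat.card_eq_fintype_card]
    exact Nat.pow_le_pow_right (by omega) hM
  · intro b hb
    obtain ⟨I₀, -, hI₀⟩ := Finset.mem_image.1 hb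
    let g : ℕ → Ideal R := fun i => Ideal.comap (σ ^ i) I₀.1
    refine le_trans (Finset.card_le_card_of_injOn (t := (Finset.range p).image g)
      (fun I => I.1) (fun I hI => ?_) (Subtype.val_injective.injOn))
      (Finset.card_image_le.trans (Finset.card_range p).le)
    rw [Finset.mem_coe, Finset.mem_filter] at hI
    have := I.2
    have := I₀.2
    have hmax : ∀ J : Ideal R, J.IsPrime → J.IsMaximal := fun J hJ => by
      have : Finite (R ⧸ J) := Finite.of_surjective _ Ideal.Quotient.mk_surjective
      have : IsDomain (R ⧸ J) := (Ideal.Quotient.isDomain_iff_prime J).2 hJ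
      exact Ideal.Quotient.maximal_of_isField J (Finite.isField_of_domain (R ⧸ J))
    have hsub : ((I.1 : Ideal R) : Set R) ⊆ ⋃ i ∈ ((Finset.range p : Finset ℕ) : Set ℕ), g i := by
      intro x hx
      let N : R := ∏ i : ZMod p, σ^[i.val] x
      have hN : σ N = N := by
        simp only [N, map_prod]
        refine Fintype.prod_equiv (Equiv.addRight (1 : ZMod p)) _ _ fun i => ?_
        rw [Equiv.coe_addRight, ← Function.iterate_succ_apply' σ, ZMod.val_add, ZMod.val_one]
        rcases Nat.lt_or_ge (i.val + 1) p with h | h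
        · rw [Nat.mod_eq_of_lt h]
        · have := ZMod.val_lt i
          rw [show i.val.succ = p by omega, hσ, show i.val + 1 = p by omega, Nat.mod_self]
          rfl
      have hNI : N ∈ I.1 := by
        refine Ideal.mem_of_dvd _ (Finset.dvd_prod_of_mem _ (Finset.mem_univ (0 : ZMod p))) ?_
        simpa using hx
      have h2 : (⟨N, hN⟩ : {x : R // σ x = x}) ∈ f I₀ := (hI.2.trans hI₀.symm) ▸ hNI
      obtain ⟨i, -, hi⟩ := Ideal.IsPrime.prod_mem_iff.1 (show N ∈ I₀.1 from h2)
      refine Set.mem_iUnion₂.2 ⟨i.val, Finset.mem_coe.2 (Finset.mem_range.2 (ZMod.val_lt i)), ?_⟩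
      show (σ ^ i.val) x ∈ I₀.1
      rwa [RingHom.coe_pow]
    obtain ⟨i, hi, hle⟩ := (Ideal.subset_union_prime 0 0 fun i _ _ _ =>
      Ideal.IsPrime.comap (σ ^ i)).1 hsub
    refine Finset.mem_coe.2 (Finset.mem_image.2 ⟨i, hi, ((hmax _ I.2).eq_of_le ?_ hle).symm⟩)
    exact (Ideal.IsPrime.comap (σ ^ i)).ne_top

theorem card_ring_le [IsReduced R] (hσ : ∀ x, σ^[p] x = x) {M : ℕ}
    (hM : Nat.card {x : R // σ x = x} ≤ M) : Nat.card R ≤ (p * M ^ p) ^ (p * 2 ^ M) := by
  have : Finite (Ideal R) := Finite.of_injective (fun I => (I : Set R)) SetLike.coe_injective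
  have : Fintype {I : Ideal R // I.IsPrime} := Fintype.ofFinite _
  have hinj : Function.Injective
      (fun x : R => fun I : {I : Ideal R // I.IsPrime} => Ideal.Quotient.mk I.1 x) := by
    intro a b hab
    have h : a - b ∈ nilradical R := by
      rw [nilradical_eq_sInf, Submodule.mem_sInf]
      intro J hJ
      exact Ideal.Quotient.eq.1 (congrFun hab ⟨J, hJ⟩)
    rw [nilradical_eq_zero, Submodule.zero_eq_bot, Submodule.mem_bot, sub_eq_zero] at h
    exact h
  have : ∀ I : {I : Ideal R // I.IsPrime}, Finite (R ⧸ I.1) := fun I =>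
    Finite.of_surjective _ Ideal.Quotient.mk_surjective
  refine (Nat.card_le_card_of_injective _ hinj).trans ?_
  rw [Nat.card_pi]
  refine (Finset.prod_le_pow_card _ _ (p * M ^ p) fun I _ => ?_).trans ?_
  · have := I.2
    exact card_quotient_prime_le σ hσ hM I.1
  · refine Nat.pow_le_pow_right ?_ ?_
    · have : 0 < M := lt_of_lt_of_le (Nat.card_pos_iff.2 ⟨⟨⟨0, map_zero σ⟩⟩, inferInstance⟩) hM
      exact Nat.mul_pos (Fact.out : p.Prime).pos (pow_pos this p)
    · rw [Finset.card_univ, ← Nat.card_eq_fintype_card]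
      exact card_primes_le σ hσ hM

end CfsgLib.Alperin
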