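import Mathlib
import Cfsg.Agent.Lib.Alperin.Basic
import Cfsg.Agent.Lib.Alperin.RingBound

/-!
# Abelian groups of operators normalized by an automorphism with few fixed points
-/

set_option autoImplicit false

namespace CfsgLib.Alperin

/-- The bound for abelian groups of operators. -/
def fA (p m : ℕ) : ℕ := m * (p * (m ^ m) ^ p) ^ (p * 2 ^ (m ^ m))

theorem card_operators_le {V : Type*} [AddCommGroup V] [Finite V] {A : Type*} [CommGroup A]
    [Finite A] {p m r : ℕ} [Fact p.Prime] [Fact r.Prime] (hVr : ∀ v : V, r • v = 0)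
    (hA : (Nat.card A).Coprime r) (ρ : A →* AddMonoid.End V) (hρ : Function.Injective ρ)
    {α : MulAut A} (hα : Fix α p m) (T : AddMonoid.End V) (hTp : T ^ p = 1)
    (hT : ∀ a, T * ρ a = ρ (α a) * T) (hV : Nat.card {v : V // T v = v} ≤ m) :
    Nat.card A ≤ fA p m := by
  classical
  have hp := (Fact.out : p.Prime)
  have hr := (Fact.out : r.Prime)
  have : Fintype A := Fintype.ofFinite A
  have hcop : ∀ {n : ℕ}, n.Coprime r → ∀ {v : V}, n • v = 0 → v = 0 := by
    intro n hn v hv
    have h1 := Nat.dvd_gcd (addOrderOf_dvd_of_nsmul_eq_zero hv) (addOrderOf_dvd_of_nsmul_eq_zero (hVr v))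
    rw [hn, Nat.dvd_one] at h1
    exact AddMonoid.addOrderOf_eq_one_iff.1 h1
  let δ : ℕ → (A →* A) := fun i => MonoidHom.mk' (fun a => a⁻¹ * (α ^ i) a) fun a b => by
    rw [mul_inv, map_mul, mul_mul_mul_comm]
  set B := (δ 1).range
  have hker : ∀ i, ¬ p ∣ i → ∀ a : A, (α ^ i) a = a → α a = a := by
    intro i hi a ha
    obtain ⟨j, -, hj⟩ := Nat.exists_mul_mod_eq_one_of_coprime (hp.coprime_iff_not_dvd.2 hi).symm hp.one_lt
    have h1 : α ^ (i * j) = α := by
      rw [← Nat.mod_add_div (i * j) p, hj, pow_add, pow_one, pow_mul, hα.pow, one_pow, mul_one]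
    have h2 : ∀ n, ((α ^ i) ^ n) a = a := by
      intro n
      induction n with
      | zero => rfl
      | succ n ih => rw [pow_succ', MulAut.mul_apply, ih, ha]
    have h3 := h2 j
    rwa [← pow_mul, h1] at h3
  have hrange : ∀ i, ¬ p ∣ i → (δ i).range = B := by
    intro i hi
    refine Subgroup.eq_of_le_of_card_ge ?_ ?_
    · rintro _ ⟨a, rfl⟩
      suffices ∀ i a, δ i a ∈ B from this i a
      intro i
      induction i with
      | zero => intro a; simp [δ, one_mem]
      | succ i ih =>
        intro a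
        have : δ (i + 1) a = δ i a * δ 1 ((α ^ i) a) := by
          simp only [δ, MonoidHom.mk'_apply, pow_succ', pow_zero, mul_one, MulAut.mul_apply]
          group
        rw [this]
        exact mul_mem (ih a) ⟨_, rfl⟩
    · have e1 := (δ 1).ker.card_mul_index
      have e2 := (δ i).ker.card_mul_index
      rw [Subgroup.index_ker] at e1 e2
      have hle : Nat.card (δ i).ker ≤ Nat.card (δ 1).ker := by
        refine Subgroup.card_le_of_le fun a ha => ?_
        have := hker i hi a (inv_mul_eq_one.1 (show a⁻¹ * (α ^ i) a = 1 from ha)).symm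
        show a⁻¹ * (α ^ 1) a = 1
        rw [pow_one, this, inv_mul_cancel]
      have h3 : Nat.card (δ i).ker * Nat.card B ≤ Nat.card (δ i).ker * Nat.card (δ i).range :=
        calc Nat.card (δ i).ker * Nat.card B ≤ Nat.card (δ 1).ker * Nat.card B :=
              Nat.mul_le_mul_right _ hle
          _ = _ := e1.trans e2.symm
      exact Nat.le_of_mul_le_mul_left h3 Nat.card_pos
  have : Fintype B := Fintype.ofFinite B
  set N : AddMonoid.End V := ∑ b : B, ρ b.1
  have hρN : ∀ a, ρ a * N = N * ρ a := fun a => by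
    simp only [N, Finset.mul_sum, Finset.sum_mul, ← map_mul, mul_comm a]
  have hρNB : ∀ b : B, ρ b.1 * N = N := fun b => by
    simp only [N, Finset.mul_sum, ← map_mul]
    exact Fintype.sum_equiv (Equiv.mulLeft b) _ _ fun c => rfl
  have hαB : ∀ b : B, α b.1 ∈ B := by
    rintro ⟨_, a, rfl⟩
    exact ⟨α a, by simp [δ]⟩
  have hTN : T * N = N * T := by
    simp only [N, Finset.mul_sum, Finset.sum_mul, hT]
    refine Fintype.sum_equiv (Equiv.ofBijective (fun b : B => (⟨α b.1, hαB b⟩ : B))
      (Finite.injective_iff_bijective.1 fun b c h => Subtype.ext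
        (α.injective (congrArg Subtype.val h)))) _ _ fun b => rfl
  set W : AddSubgroup V := AddMonoidHom.ker N
  have hW : ∀ (f : AddMonoid.End V), f * N = N * f → ∀ v ∈ W, f v ∈ W := fun f hf v hv => by
    show (N * f) v = 0
    rw [← hf]
    show f (N v) = 0
    rw [show N v = 0 from hv, map_zero]
  let res : ∀ (f : AddMonoid.End V), f * N = N * f → AddMonoid.End W := fun f hf =>
    AddMonoidHom.mk' (fun v => ⟨f v.1, hW f hf v.1 v.2⟩) fun u v => Subtype.ext (map_add f u.1 v.1)
  let ρW : A →* AddMonoid.End W :=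
    { toFun := fun a => res (ρ a) (hρN a)
      map_one' := AddMonoidHom.ext fun v => Subtype.ext (by
        show ρ 1 v.1 = v.1
        rw [map_one]
        rfl)
      map_mul' := fun a b => AddMonoidHom.ext fun v => Subtype.ext (by
        show ρ (a * b) v.1 = ρ a (ρ b v.1)
        rw [map_mul]
        rfl) }
  let TW : AddMonoid.End W := res T hTN
  have hTWv : ∀ (n : ℕ) (v : W), ((TW ^ n) v).1 = (T ^ n) v.1 := by
    intro n
    induction n with
    | zero => exact fun v => rfl
    | succ n ih =>
      intro v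
      rw [pow_succ', pow_succ']
      show T ((TW ^ n) v).1 = T ((T ^ n) v.1)
      rw [ih]
  have hTWp : TW ^ p = 1 := AddMonoidHom.ext fun v => Subtype.ext (by
    refine (hTWv p v).trans ?_
    rw [hTp]
    rfl)
  -- averaging
  have hspan : ∀ v : W, ∃ w : A → W, (∀ a, TW (w a) = w a) ∧
      Fintype.card A • v = ∑ a, ρW a⁻¹ (w a) := by
    intro v
    have hfixe : TW * ∑ i ∈ Finset.range p, TW ^ i = ∑ i ∈ Finset.range p, TW ^ i := by
      have h := mul_geom_sum TW p
      rw [hTWp, sub_self, sub_mul, one_mul, sub_eq_zero] at h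
      exact h
    refine ⟨fun a => (∑ i ∈ Finset.range p, TW ^ i) (ρW a v),
      fun a => DFunLike.congr_fun hfixe _, ?_⟩
    have hTρ : ∀ (i : ℕ) (a : A), TW ^ i * ρW a = ρW ((α ^ i) a) * TW ^ i := by
      intro i
      induction i with
      | zero => intro a; simp
      | succ i ih =>
        intro a
        rw [pow_succ', mul_assoc, ih, ← mul_assoc,
          show TW * ρW ((α ^ i) a) = ρW (α ((α ^ i) a)) * TW from
            AddMonoidHom.ext fun u => Subtype.ext (DFunLike.congr_fun (hT ((α ^ i) a)) u.1),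
          mul_assoc, pow_succ', MulAut.mul_apply]
    suffices (∑ a : A, ρW a⁻¹ * ((∑ i ∈ Finset.range p, TW ^ i) * ρW a)) =
        (Fintype.card A : AddMonoid.End W) by
      have h2 := DFunLike.congr_fun this v
      rw [AddMonoid.End.natCast_apply] at h2
      refine h2.symm.trans ?_
      exact (AddMonoidHom.finsetSum_apply (fun a => ρW a⁻¹ * ((∑ i ∈ Finset.range p, TW ^ i) * ρW a))
        Finset.univ v)
    simp only [Finset.sum_mul, hTρ, Finset.mul_sum, ← mul_assoc, ← map_mul]
    rw [Finset.sum_comm, Finset.sum_eq_single 0]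
    · simp
    · intro i hi hi0
      have hi' : ¬ p ∣ i := fun h => hi0 (Nat.eq_zero_of_dvd_of_lt h (Finset.mem_range.1 hi))
      rw [← Finset.sum_mul]
      suffices (∑ a : A, ρW (a⁻¹ * (α ^ i) a)) = 0 by rw [this, zero_mul]
      refine AddMonoidHom.ext fun u => Subtype.ext ?_
      set S := ∑ a : A, ρ (a⁻¹ * (α ^ i) a)
      have hS : ((∑ a : A, ρW (a⁻¹ * (α ^ i) a)) u).1 = S u.1 := by
        rw [show (∑ a : A, ρW (a⁻¹ * (α ^ i) a)) u = ∑ a : A, ρW (a⁻¹ * (α ^ i) a) u from
          AddMonoidHom.finsetSum_apply (fun a => ρW (a⁻¹ * (α ^ i) a)) Finset.univ u,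
          AddSubgroup.val_finsetSum]
        exact (AddMonoidHom.finsetSum_apply (fun a => ρ (a⁻¹ * (α ^ i) a)) Finset.univ u.1).symm
      refine hS.trans (hcop ((hA.coprime_dvd_left (Subgroup.card_subgroup_dvd_card B))) ?_)
      have hb : ∀ b : B, ρ b.1 * S = S := by
        intro b
        obtain ⟨c, hc⟩ : b.1 ∈ (δ i).range := by rw [hrange i hi']; exact b.2
        simp only [S, Finset.mul_sum, ← map_mul]
        refine Fintype.sum_equiv (Equiv.mulLeft c) _ _ fun a => ?_
        rw [← hc]
        show ρ (c⁻¹ * (α ^ i) c * (a⁻¹ * (α ^ i) a)) = ρ ((c * a)⁻¹ * (α ^ i) (c * a))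
        rw [mul_inv, map_mul (α ^ i), mul_mul_mul_comm]
      have hNS : N * S = Nat.card B • S := by
        simp only [N, Finset.sum_mul, hb, Finset.sum_const, Finset.card_univ, Nat.card_eq_fintype_card]
      have hSN : N * S = S * N := by
        simp only [S, Finset.mul_sum, Finset.sum_mul, hρN]
      have h3 := DFunLike.congr_fun (hNS.symm.trans hSN) u.1
      refine h3.trans ?_
      show S (N u.1) = 0
      rw [show N u.1 = 0 from u.2, map_zero]
    · intro h; simp [hp.pos] at h
  -- `B` is faithful on `W`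
  have hfaith : ∀ b : B, ρW b.1 = 1 → b = 1 := by
    intro b hb
    have h1 : ∀ v : V, ∀ j : ℕ, ρ (b.1 ^ j) v = v + j • (ρ b.1 v - v) := by
      intro v j
      have hu : ρ b.1 v - v ∈ W := by
        show N (ρ b.1 v - v) = 0
        rw [map_sub, sub_eq_zero]
        have := DFunLike.congr_fun ((hρN b.1).symm.trans (hρNB b)) v
        exact this
      have hbu : ρ b.1 (ρ b.1 v - v) = ρ b.1 v - v :=
        congrArg Subtype.val (DFunLike.congr_fun hb (⟨_, hu⟩ : W))
      induction j with
      | zero => simp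
      | succ j ih =>
        rw [pow_succ', map_mul]
        show ρ b.1 (ρ (b.1 ^ j) v) = _
        rw [ih, map_add, map_nsmul, hbu, succ_nsmul]
        abel
    have h2 : b.1 ^ r = 1 := hρ (AddMonoidHom.ext fun v => by
      refine (h1 v r).trans ?_
      rw [hVr, add_zero, map_one]
      rfl)
    refine Subtype.ext (orderOf_eq_one_iff.1 (Nat.dvd_one.1 ?_))
    exact hA ▸ Nat.dvd_gcd (orderOf_dvd_natCard b.1) (orderOf_dvd_of_pow_eq_one h2)
  -- the ring generated by the operators
  set R := Subring.closure (Set.range ρW)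
  let _ : CommRing R := Subring.closureCommRingOfComm (by
    rintro _ ⟨a, rfl⟩ _ ⟨b, rfl⟩
    rw [← map_mul, ← map_mul, mul_comm])
  let Tu : (AddMonoid.End W)ˣ := Units.ofPowEqOne TW p hTWp hp.ne_zero
  have hconj : ∀ a, TW * ρW a * (Tu⁻¹ : (AddMonoid.End W)ˣ) = ρW (α a) := fun a => by
    rw [show TW * ρW a = ρW (α a) * TW from
      AddMonoidHom.ext fun u => Subtype.ext (DFunLike.congr_fun (hT a) u.1), mul_assoc,
      show TW = (Tu : AddMonoid.End W) from rfl, Units.mul_inv, mul_one]
  have hRσ : ∀ x ∈ R, TW * x * (Tu⁻¹ : (AddMonoid.End W)ˣ) ∈ R := by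
    intro x hx
    induction hx using Subring.closure_induction with
    | mem x hx =>
      obtain ⟨a, rfl⟩ := hx
      rw [hconj]
      exact Subring.subset_closure ⟨_, rfl⟩
    | zero => rw [mul_zero, zero_mul]; exact zero_mem _
    | one => rw [mul_one, show TW = (Tu : AddMonoid.End W) from rfl, Units.mul_inv]; exact one_mem _
    | add x y _ _ hx hy => rw [mul_add, add_mul]; exact add_mem hx hy
    | neg x _ hx =>
      convert neg_mem hx using 1
      exact AddMonoidHom.ext fun v => (map_neg TW (x ((Tu⁻¹ : (AddMonoid.End W)ˣ).1 v)))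
    | mul x y _ _ hx hy =>
      rw [show TW * (x * y) * (Tu⁻¹ : (AddMonoid.End W)ˣ) =
        (TW * x * (Tu⁻¹ : (AddMonoid.End W)ˣ)) * (TW * y * (Tu⁻¹ : (AddMonoid.End W)ˣ)) by
          rw [show TW = (Tu : AddMonoid.End W) from rfl]
          simp only [mul_assoc, Units.inv_mul_cancel_left]]
      exact mul_mem hx hy
  let σ : R →+* R :=
    { toFun := fun x => ⟨_, hRσ x.1 x.2⟩
      map_one' := Subtype.ext (by
        show TW * 1 * _ = (1 : AddMonoid.End W)
        rw [mul_one, show TW = (Tu : AddMonoid.End W) from rfl, Units.mul_inv])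
      map_mul' := fun x y => Subtype.ext (by
        show TW * (x.1 * y.1) * _ = (TW * x.1 * _) * (TW * y.1 * _)
        rw [show TW = (Tu : AddMonoid.End W) from rfl]
        simp only [mul_assoc, Units.inv_mul_cancel_left])
      map_zero' := Subtype.ext (by simp)
      map_add' := fun x y => Subtype.ext (by simp [mul_add, add_mul]) }
  have hσn : ∀ (n : ℕ) (x : R),
      (σ^[n] x).1 * TW ^ n = TW ^ n * x.1 := by
    intro n
    induction n with
    | zero => intro x; simp
    | succ n ih =>
      intro x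
      rw [Function.iterate_succ_apply']
      show TW * (σ^[n] x).1 * (Tu⁻¹ : (AddMonoid.End W)ˣ) * TW ^ (n + 1) = _
      rw [pow_succ', mul_assoc _ _ (TW * TW ^ n), ← mul_assoc _ TW (TW ^ n),
        show ((Tu⁻¹ : (AddMonoid.End W)ˣ) : AddMonoid.End W) * TW = 1 from Tu.inv_mul, one_mul,
        mul_assoc, ih, ← mul_assoc]
  have hσp : ∀ x, σ^[p] x = x := fun x => Subtype.ext (by
    have := hσn p x
    rwa [hTWp, mul_one, one_mul] at this)
  have hcommA : ∀ x ∈ R, ∀ a, x * ρW a = ρW a * x := fun x hx a =>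
    congrArg Subtype.val (mul_comm (⟨x, hx⟩ : R) ⟨ρW a, Subring.subset_closure ⟨a, rfl⟩⟩)
  have : Finite R := Finite.of_injective (fun x : R => ((x.1 : AddMonoid.End W) : W → W))
    fun x y h => Subtype.ext (AddMonoidHom.ext fun v => congrFun h v)
  let W₀ := {v : W // TW v = v}
  have hW₀ : Nat.card W₀ ≤ m := le_trans (Nat.card_le_card_of_injective
    (fun v => (⟨v.1.1, congrArg Subtype.val v.2⟩ : {v : V // T v = v}))
    fun u v h => Subtype.ext (Subtype.ext (congrArg (fun z => z.1) h))) hV
  have hfixR : Nat.card {x : R // σ x = x} ≤ m ^ m := by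
    have hmap : ∀ x : {x : R // σ x = x}, ∀ w : W₀, TW (x.1.1 w.1) = x.1.1 w.1 := by
      intro x w
      have h := DFunLike.congr_fun (hσn 1 x.1) w.1
      rw [Function.iterate_one, x.2, pow_one] at h
      refine h.symm.trans ?_
      show x.1.1 (TW w.1) = _
      rw [w.2]
    refine le_trans (Nat.card_le_card_of_injective
      (fun x : {x : R // σ x = x} => fun w : W₀ => (⟨x.1.1 w.1, hmap x w⟩ : W₀)) ?_) ?_
    · intro x y hxy
      refine Subtype.ext (Subtype.ext (AddMonoidHom.ext fun v => sub_eq_zero.1 (Subtype.ext ?_)))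
      refine hcop (n := Nat.card A) hA (congrArg Subtype.val
        (show Nat.card A • (x.1.1 v - y.1.1 v) = 0 from ?_))
      rw [smul_sub, sub_eq_zero, ← map_nsmul, ← map_nsmul, Nat.card_eq_fintype_card]
      obtain ⟨w, hw, e⟩ := hspan v
      rw [e, map_sum, map_sum]
      refine Finset.sum_congr rfl fun a _ => ?_
      refine (DFunLike.congr_fun (hcommA _ x.1.2 a⁻¹) (w a)).trans
        (Eq.trans ?_ (DFunLike.congr_fun (hcommA _ y.1.2 a⁻¹) (w a)).symm)
      show ρW a⁻¹ (x.1.1 (w a)) = ρW a⁻¹ (y.1.1 (w a))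
      exact congrArg (ρW a⁻¹) (congrArg Subtype.val (congrFun hxy ⟨w a, hw a⟩))
    · rw [Nat.card_fun]
      have : 0 < Nat.card W₀ := Nat.card_pos_iff.2 ⟨⟨⟨0, map_zero _⟩⟩, inferInstance⟩
      exact (Nat.pow_le_pow_left hW₀ _).trans (Nat.pow_le_pow_right (by omega) hW₀)
  have hred : IsReduced R := by
    by_cases hnt : Nontrivial R
    swap
    · rw [not_nontrivial_iff_subsingleton] at hnt
      exact ⟨fun x _ => Subsingleton.elim _ _⟩
    have hr0 : (r : R) = 0 := Subtype.ext (AddMonoidHom.ext fun v => by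
      show ((r : R) : AddMonoid.End W) v = 0
      refine (DFunLike.congr_fun (map_natCast R.subtype r) v).trans ?_
      refine (AddMonoid.End.natCast_apply r v).trans ?_
      exact Subtype.ext (hVr v.1))
    have : CharP R r := (CharP.charP_iff_prime_eq_zero hr).2 hr0
    set n := (Nat.card A).totient
    have hn : 0 < n := Nat.totient_pos.2 Nat.card_pos
    have hmod : r ^ n ≡ 1 [MOD Nat.card A] := Nat.ModEq.pow_totient hA.symm
    have hpow : ∀ x : R, x ^ r ^ n = x := by
      intro x
      suffices iterateFrobenius R r n x = x by rwa [iterateFrobenius_def] at this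
      obtain ⟨x, hx⟩ := x
      induction hx using Subring.closure_induction with
      | mem x hx =>
        obtain ⟨a, rfl⟩ := hx
        rw [iterateFrobenius_def]
        refine Subtype.ext ?_
        show ρW a ^ r ^ n = ρW a
        rw [← map_pow, ← pow_mod_natCard a (r ^ n), hmod, pow_mod_natCard, pow_one]
      | zero => exact map_zero (iterateFrobenius R r n)
      | one => exact map_one (iterateFrobenius R r n)
      | add x y hx hy ihx ihy =>
        exact (map_add (iterateFrobenius R r n) ⟨x, hx⟩ ⟨y, hy⟩).trans (congrArg₂ (· + ·) ihx ihy)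
      | neg x hx ihx =>
        exact (map_neg (iterateFrobenius R r n) ⟨x, hx⟩).trans (congrArg Neg.neg ihx)
      | mul x y hx hy ihx ihy =>
        exact (map_mul (iterateFrobenius R r n) ⟨x, hx⟩ ⟨y, hy⟩).trans (congrArg₂ (· * ·) ihx ihy)
    refine ⟨fun x ⟨k, hk⟩ => ?_⟩
    have hiter : ∀ k, x ^ (r ^ n) ^ k = x := by
      intro k
      induction k with
      | zero => simp
      | succ k ih => rw [pow_succ, pow_mul, ih, hpow]
    rw [← hiter k]
    exact pow_eq_zero_of_le (Nat.lt_pow_self (Nat.one_lt_pow hn.ne' hr.one_lt)).le hk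
  have hRcard := card_ring_le σ hσp hfixR
  have hBR : Nat.card B ≤ Nat.card R := by
    refine Nat.card_le_card_of_injective
      (fun b : B => (⟨ρW b.1, Subring.subset_closure ⟨_, rfl⟩⟩ : R)) fun b c h => ?_
    refine mul_inv_eq_one.1 (hfaith (b * c⁻¹) ?_)
    rw [Subgroup.coe_mul, map_mul, show ρW b.1 = ρW c.1 from congrArg Subtype.val h, ← map_mul,
      Subgroup.coe_inv, mul_inv_cancel, map_one]
  have hcard := card_fix_mul_card_image α
  have hBimg : Nat.card (Set.range fun g => g⁻¹ * α g) = Nat.card B := by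
    refine Nat.card_congr (Equiv.setCongr (Set.ext fun x => ?_))
    refine exists_congr fun a => ?_
    show a⁻¹ * α a = x ↔ a⁻¹ * (α ^ 1) a = x
    rw [pow_one]
  rw [← hcard, hBimg]
  exact Nat.mul_le_mul hα.card (hBR.trans hRcard)

end CfsgLib.Alperin
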