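import Mathlib

/-!
# A common isotropic vector of a few bilinear maps

By the Chevalley–Warning theorem, `p` bilinear maps from a large elementary abelian `q`-group
have a common non-trivial isotropic vector.
-/

set_option autoImplicit false

namespace CfsgLib.Alperin

theorem exists_isotropic {q : ℕ} [Fact q.Prime] {W K : Type*} [AddCommGroup W] [Finite W]
    [AddCommGroup K] [Finite K] (hW : ∀ w : W, q • w = 0) (hK : ∀ c : K, q • c = 0) {ι : Type*}
    [Fintype ι] (β : ι → (W →+ W →+ K))
    (hcard : Nat.card K ^ (2 * Fintype.card ι) < Nat.card W) : ∃ w ≠ 0, ∀ i, β i w w = 0 := by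
  classical
  have hq := (Fact.out : q.Prime)
  have : Fintype W := Fintype.ofFinite W
  have : Fintype K := Fintype.ofFinite K
  obtain ⟨instW⟩ : Nonempty (Module (ZMod q) W) := ⟨AddCommGroup.zmodModule hW⟩
  obtain ⟨instK⟩ : Nonempty (Module (ZMod q) K) := ⟨AddCommGroup.zmodModule hK⟩
  let bW := Module.finBasis (ZMod q) W
  let bK := Module.finBasis (ZMod q) K
  set d := Module.finrank (ZMod q) W
  set s := Module.finrank (ZMod q) K
  have hd : Nat.card W = q ^ d := by
    rw [Nat.card_eq_fintype_card, Module.card_eq_pow_finrank (K := ZMod q) (V := W), ZMod.card]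
  have hs : Nat.card K = q ^ s := by
    rw [Nat.card_eq_fintype_card, Module.card_eq_pow_finrank (K := ZMod q) (V := K), ZMod.card]
  let f : ι × Fin s → MvPolynomial (Fin d) (ZMod q) := fun il =>
    ∑ a, ∑ b, MvPolynomial.C (bK.repr (β il.1 (bW a) (bW b)) il.2) * MvPolynomial.X a *
      MvPolynomial.X b
  have hdeg : ∀ il, (f il).totalDegree ≤ 2 := by
    intro il
    refine (MvPolynomial.totalDegree_finsetSum _ _).trans (Finset.sup_le fun a _ => ?_)
    refine (MvPolynomial.totalDegree_finsetSum _ _).trans (Finset.sup_le fun b _ => ?_)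
    refine (MvPolynomial.totalDegree_mul _ _).trans ?_
    refine (Nat.add_le_add (MvPolynomial.totalDegree_mul _ _) le_rfl).trans ?_
    simp [MvPolynomial.totalDegree_C, MvPolynomial.totalDegree_X]
  have hlt : ∑ il, (f il).totalDegree < Fintype.card (Fin d) := by
    refine lt_of_le_of_lt (Finset.sum_le_sum fun il _ => hdeg il) ?_
    rw [Finset.sum_const, Finset.card_univ, Fintype.card_prod, Fintype.card_fin, smul_eq_mul,
      Fintype.card_fin]
    rw [hd, hs, ← pow_mul] at hcard
    have := (Nat.pow_lt_pow_iff_right hq.one_lt).1 hcard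
    linarith
  have hdvd := char_dvd_card_solutions_of_fintype_sum_lt q hlt
  obtain ⟨x, hx, hx0⟩ : ∃ x : Fin d → ZMod q, (∀ il, MvPolynomial.eval x (f il) = 0) ∧ x ≠ 0 := by
    by_contra hc
    push Not at hc
    have h1 : Fintype.card {x // ∀ il, MvPolynomial.eval x (f il) = 0} = 1 := by
      refine Fintype.card_eq_one_iff.2 ⟨⟨0, fun il => by simp [f]⟩, fun y => ?_⟩
      exact Subtype.ext (hc y.1 y.2)
    rw [h1, Nat.dvd_one] at hdvd
    exact hq.one_lt.ne' hdvd
  refine ⟨bW.equivFun.symm x, fun h => hx0 ?_, fun i => ?_⟩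
  · exact bW.equivFun.symm.injective (h.trans (map_zero _).symm)
  refine bK.repr.injective (Finsupp.ext fun l => ?_)
  have h := hx (i, l)
  simp only [f, map_sum, map_mul, MvPolynomial.eval_C, MvPolynomial.eval_X] at h
  rw [map_zero, Finsupp.zero_apply, ← h, bW.equivFun_symm_apply]
  have hsm : ∀ (c : ZMod q) (v : W), c • v = c.val • v := fun c v => by
    rw [← Nat.cast_smul_eq_nsmul (ZMod q), ZMod.natCast_zmod_val]
  simp only [hsm, map_sum, map_nsmul, AddMonoidHom.finsetSum_apply, Finset.smul_sum,
    AddMonoidHom.nsmul_apply, Finsupp.coe_finsetSum, Finset.sum_apply, Finsupp.smul_apply,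
    nsmul_eq_mul, ZMod.natCast_zmod_val]
  rw [Finset.sum_comm]
  refine Finset.sum_congr rfl fun a _ => Finset.sum_congr rfl fun b _ => ?_
  ring

end CfsgLib.Alperin
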