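import Mathlib
import Cfsg.Agent.Lib.Alperin.Abelian
import Cfsg.Agent.Lib.Alperin.Isotropic

/-!
# Nilpotent groups all of whose invariant abelian subgroups are small

If `α ^ p = 1` and every `α`-invariant abelian subgroup of the nilpotent group `F` has order at
most `f`, then the order of `F` is bounded in terms of `p` and `f`.
-/

set_option autoImplicit false

namespace CfsgLib.Alperin

open scoped commutatorElement

theorem card_le_pow_of_torsion {G : Type*} [CommGroup G] [Finite G] {D : ℕ} (hD : 1 ≤ D) :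
    ∀ (n : ℕ), 0 < n → ∀ H : Subgroup G, (∀ x ∈ H, x ^ n = 1) →
      (∀ q : ℕ, q.Prime → Nat.card {x : G // x ∈ H ∧ x ^ q = 1} ≤ D) → Nat.card H ≤ D ^ n := by
  intro n
  induction n using Nat.strong_induction_on with
  | _ n ih =>
    intro hn H hexp hq
    rcases Nat.lt_or_ge n 2 with h1 | h1
    · have : H = ⊥ := (Subgroup.eq_bot_iff_forall _).2 fun x hx => by
        have := hexp x hx
        rwa [show n = 1 by omega, pow_one] at this
      rw [this, Subgroup.card_bot]
      exact Nat.one_le_pow _ _ hD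
    · obtain ⟨q, hqp, hqn⟩ := Nat.exists_prime_and_dvd (show n ≠ 1 by omega)
      obtain ⟨n', rfl⟩ := hqn
      have hn' : 0 < n' := Nat.pos_of_ne_zero fun h => by simp [h] at hn
      let g : H →* G := (powMonoidHom q).comp H.subtype
      have hlt : n' < q * n' := lt_mul_of_one_lt_left hn' hqp.one_lt
      have hr : Nat.card g.range ≤ D ^ n' := by
        refine ih n' hlt hn' g.range ?_ fun l hl => le_trans ?_ (hq l hl)
        · rintro _ ⟨x, rfl⟩
          show ((x : G) ^ q) ^ n' = 1
          rw [← pow_mul]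
          exact hexp _ x.2
        · refine Nat.card_le_card_of_injective (fun x => ⟨x.1, ?_, x.2.2⟩)
            fun a b h => Subtype.ext (congrArg (fun z => z.1) h)
          obtain ⟨y, hy⟩ := x.2.1
          rw [← hy]
          exact pow_mem y.2 q
      have hk : Nat.card g.ker ≤ D := by
        refine le_trans (Nat.card_le_card_of_injective (fun x => ⟨x.1.1, x.1.2, x.2⟩) ?_) (hq q hqp)
        exact fun a b h => Subtype.ext (Subtype.ext (congrArg (fun z => z.1) h))
      calc Nat.card H = Nat.card g.ker * g.ker.index := g.ker.card_mul_index.symm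
        _ = Nat.card g.ker * Nat.card g.range := by rw [Subgroup.index_ker]
        _ ≤ D * D ^ n' := Nat.mul_le_mul hk hr
        _ = D ^ (n' + 1) := (pow_succ' D n').symm
        _ ≤ D ^ (q * n') := Nat.pow_le_pow_right hD (by omega)

theorem bilin_commutator {X : Type*} [Group X] {u v w : X} (hc : Commute u ⁅v, w⁆) :
    ⁅u * v, w⁆ = ⁅v, w⁆ * ⁅u, w⁆ := by
  have h : ⁅u * v, w⁆ = u * ⁅v, w⁆ * u⁻¹ * ⁅u, w⁆ := by
    simp only [commutatorElement_def]
    group
  rw [h, hc.eq, mul_inv_cancel_right]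

theorem commutator_mul_right {X : Type*} [Group X] {u v w : X} (hc : Commute v ⁅u, w⁆) :
    ⁅u, v * w⁆ = ⁅u, v⁆ * ⁅u, w⁆ := by
  have h : ⁅u, v * w⁆ = ⁅u, v⁆ * (v * ⁅u, w⁆ * v⁻¹) := by
    simp only [commutatorElement_def]
    group
  rw [h, hc.eq, mul_inv_cancel_right]

variable {X : Type*} [Group X]

theorem commutator_pow_left {u w : X} (hc : Commute u ⁅u, w⁆) :
    ∀ n : ℕ, ⁅u ^ n, w⁆ = ⁅u, w⁆ ^ n
  | 0 => by simp
  | n + 1 => by
    rw [pow_succ, bilin_commutator (hc.pow_left n), commutator_pow_left hc n, pow_succ']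

/-- The bound for nilpotent groups. -/
def fF (p f : ℕ) : ℕ := f * (f * (f ^ (2 * p * f)) ^ f).factorial

theorem card_le_of_abelian_bound [Finite X] [Group.IsNilpotent X] {p m f : ℕ} [Fact p.Prime]
    {α : MulAut X} (hα : Fix α p m)
    (hab : ∀ A : Subgroup X, Inv α A → (∀ x ∈ A, ∀ y ∈ A, x * y = y * x) → Nat.card A ≤ f) :
    Nat.card X ≤ fF p f := by
  classical
  obtain ⟨A, hA⟩ := exists_maxAb α
  have := hA.normal
  have hAf : Nat.card A ≤ f := hab A hA.inv hA.comm
  have hf : 1 ≤ f := le_trans Nat.card_pos hAf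
  set C := Subgroup.centralizer (A : Set X)
  have hCinv : Inv α C := fun g hg a ha => by
    obtain ⟨b, hb, rfl⟩ : ∃ b ∈ A, α b = a :=
      ⟨α.symm a, hA.inv.mem_iff.1 (by rwa [MulEquiv.apply_symm_apply]), α.apply_symm_apply a⟩
    rw [← map_mul, ← map_mul, hg b hb]
  set q₀ := QuotientGroup.mk' A
  set H := C ⊓ (Subgroup.center (X ⧸ A)).comap q₀
  have hHn : H.Normal := Subgroup.normal_inf_normal _ _
  have hHinv : Inv α H :=
    hCinv.inf ((inv_of_char (quot α A hA.inv) _).comap q₀ (quot_mk α A hA.inv))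
  have hHA : ∀ x ∈ H, ∀ g : X, ⁅x, g⁆ ∈ A := fun x hx g => by
    refine (QuotientGroup.eq_one_iff _).1 ?_
    show q₀ ⁅x, g⁆ = 1
    rw [map_commutatorElement, commutatorElement_eq_one_iff_mul_comm]
    exact (Subgroup.mem_center_iff.1 hx.2 _).symm
  have hAH : A ≤ H := fun a ha => by
    refine ⟨fun b hb => hA.comm b hb a ha, ?_⟩
    show q₀ a ∈ Subgroup.center (X ⧸ A)
    rw [show q₀ a = 1 from (QuotientGroup.eq_one_iff a).2 ha]
    exact one_mem _
  have hAcentral : ∀ a ∈ A, ∀ x ∈ H, Commute a x := fun a ha x hx => hx.1 a ha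
  -- a subgroup between `A` and `H` is normal
  have hnorm : ∀ B : Subgroup X, A ≤ B → B ≤ H → B.Normal := fun B h1 h2 => ⟨fun b hb g => by
    have e : g * b * g⁻¹ = b * ⁅b⁻¹, g⁆ := by
      simp only [commutatorElement_def]
      group
    rw [e]
    exact mul_mem hb (h1 (hHA _ (inv_mem (h2 hb)) g))⟩
  set K := Subgroup.centralizer (H : Set X)
  have hKA : K ≤ A := by
    by_contra hne
    have hKC : K ≤ C := fun x hx a ha => hx a (hAH ha)
    have hKinv : Inv α K := fun g hg a ha => by
      obtain ⟨b, hb, rfl⟩ : ∃ b ∈ H, α b = a :=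
        ⟨α.symm a, hHinv.mem_iff.1 (by rwa [MulEquiv.apply_symm_apply]), α.apply_symm_apply a⟩
      rw [← map_mul, ← map_mul, hg b hb]
    have hKn : K.Normal := inferInstance
    have hKm : (K.map q₀).Normal := hKn.map q₀ (QuotientGroup.mk'_surjective A)
    have hKne : K.map q₀ ≠ ⊥ := fun h => hne (by
      rwa [Subgroup.map_eq_bot_iff, QuotientGroup.ker_mk'] at h)
    have hmeet := CfsgLib.Critical.inf_center_ne_bot (K.map q₀) hKne
    obtain ⟨z, hz, hz1⟩ := Subgroup.ne_bot_iff_exists_ne_one.1 hmeet |> fun ⟨z, h⟩ =>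
      (⟨z.1, z.2, fun e => h (Subtype.ext e)⟩ : ∃ z, z ∈ K.map q₀ ⊓ Subgroup.center (X ⧸ A) ∧ z ≠ 1)
    obtain ⟨x, hx, rfl⟩ := hz.1
    have hxH : x ∈ H := ⟨hKC hx, hz.2⟩
    have hB : (K ⊓ H) ⊔ A ≤ A := by
      refine hA.max _ (hnorm _ le_sup_right (sup_le inf_le_right hAH))
        ((hKinv.inf hHinv).sup hA.inv) ?_ le_sup_right
      have hle : (K ⊓ H) ⊔ A ≤ Subgroup.centralizer ((K ⊓ H ⊔ A : Subgroup X) : Set X) := by
        rw [Subgroup.le_centralizer_iff]
        refine sup_le ?_ ?_ <;> rw [Subgroup.le_centralizer_iff] <;> refine sup_le ?_ ?_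
        · exact fun a ha b hb => ha.1 b hb.2
        · exact fun a ha b hb => (hAcentral a ha b hb.2).symm
        · exact fun a ha b hb => hAcentral b hb a ha.2
        · exact fun a ha b hb => hA.comm b hb a ha
      exact fun a ha b hb => hle hb a ha
    exact hz1 ((QuotientGroup.eq_one_iff x).2 (hB (Subgroup.mem_sup_left ⟨hx, hxH⟩)))
  -- `H / A`
  have hAn : (A.subgroupOf H).Normal := inferInstance
  set qH := QuotientGroup.mk' (A.subgroupOf H)
  let _ : CommGroup (H ⧸ A.subgroupOf H) := { (inferInstance : Group (H ⧸ A.subgroupOf H)) with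
    mul_comm := fun u v => by
      obtain ⟨u, rfl⟩ := QuotientGroup.mk'_surjective (A.subgroupOf H) u
      obtain ⟨v, rfl⟩ := QuotientGroup.mk'_surjective (A.subgroupOf H) v
      rw [← commutatorElement_eq_one_iff_mul_comm, ← map_commutatorElement]
      exact (QuotientGroup.eq_one_iff _).2 (hHA _ u.2 v) }
  have hexp : ∀ z : H ⧸ A.subgroupOf H, z ^ Nat.card A = 1 := by
    intro z
    obtain ⟨u, rfl⟩ := QuotientGroup.mk'_surjective (A.subgroupOf H) z
    rw [← map_pow]
    refine (QuotientGroup.eq_one_iff _).2 (hKA fun w hw => ?_)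
    have hc : ⁅(u : X), w⁆ ∈ A := hHA _ u.2 w
    have h1 : ⁅(u : X) ^ Nat.card A, w⁆ = 1 := by
      rw [commutator_pow_left (hAcentral _ hc u u.2).symm]
      exact congrArg Subtype.val (pow_card_eq_one' (x := (⟨_, hc⟩ : A)))
    exact (commutatorElement_eq_one_iff_mul_comm.1 h1).symm
  have htors : ∀ q : ℕ, q.Prime →
      Nat.card {z : H ⧸ A.subgroupOf H // z ∈ (⊤ : Subgroup _) ∧ z ^ q = 1} ≤ f ^ (2 * p * f) := by
    intro q hq
    have hD : 1 ≤ f ^ (2 * p * f) := Nat.one_le_pow _ _ hf
    by_cases hqA : q ∣ Nat.card A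
    swap
    · have : Subsingleton {z : H ⧸ A.subgroupOf H // z ∈ (⊤ : Subgroup _) ∧ z ^ q = 1} := by
        refine ⟨fun u v => Subtype.ext ?_⟩
        have h0 : ∀ z : H ⧸ A.subgroupOf H, z ^ q = 1 → z = 1 := fun z hz => by
          have := Nat.dvd_gcd (orderOf_dvd_of_pow_eq_one hz) (orderOf_dvd_of_pow_eq_one (hexp z))
          rw [(hq.coprime_iff_not_dvd.2 hqA), Nat.dvd_one] at this
          exact orderOf_eq_one_iff.1 this
        rw [h0 _ u.2.2, h0 _ v.2.2]
      exact (Finite.card_le_one_iff_subsingleton.2 this).trans hD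
    have := Fact.mk hq
    let W : Subgroup (H ⧸ A.subgroupOf H) := (powMonoidHom q).ker
    let Kq : Subgroup A := {
      carrier := {a | a ^ q = 1}
      one_mem' := one_pow q
      mul_mem' := fun {a b} ha hb => by
        show (a * b) ^ q = 1
        rw [(show Commute a b from Subtype.ext (hA.comm a.1 a.2 b.1 b.2)).mul_pow, ha, hb, one_mul]
      inv_mem' := fun {a} ha => by
        show a⁻¹ ^ q = 1
        rw [inv_pow, ha, inv_one] }
    let _ : CommGroup Kq := { (inferInstance : Group Kq) with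
      mul_comm := fun u v => Subtype.ext (Subtype.ext (hA.comm u.1.1 u.1.2 v.1.1 v.1.2)) }
    refine le_trans (le_of_eq ?_) (show Nat.card (Additive W) ≤ _ from ?_)
    · exact Nat.card_congr ((Equiv.subtypeEquivRight fun z => by simp [W]).trans Additive.ofMul)
    by_contra hbig
    push Not at hbig
    choose lift hlift using fun z : W => QuotientGroup.mk'_surjective (A.subgroupOf H) z.1
    have hlq : ∀ z : W, ((lift z : H) : X) ^ q ∈ A := fun z =>
      (QuotientGroup.eq_one_iff ((lift z) ^ q)).1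
        (((map_pow qH (lift z) q).trans (by rw [hlift z]; rfl)).trans z.2)
    have hαI : ∀ (n : ℕ), ∀ x ∈ H, (α ^ n) x ∈ H := fun n => hHinv.pow n
    have hladd : ∀ z w : W, ∃ a ∈ A, (lift (z * w) : X) = lift z * lift w * a := by
      intro z w
      refine ⟨_, ?_, (mul_inv_cancel_left ((lift z : X) * lift w) (lift (z * w))).symm⟩
      have : (lift z * lift w)⁻¹ * lift (z * w) ∈ A.subgroupOf H := QuotientGroup.eq.1 (by
        show qH (lift z * lift w) = qH (lift (z * w))
        rw [map_mul, hlift, hlift, hlift]; rfl)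
      exact this
    -- commutators with the translates are bilinear
    have hkill : ∀ u v : X, u ∈ H → v ∈ H → ∀ a ∈ A, ⁅u * a, v⁆ = ⁅u, v⁆ ∧ ⁅u, v * a⁆ = ⁅u, v⁆ := by
      intro u v hu hv a ha
      have h1 : ⁅a, v⁆ = 1 := commutatorElement_eq_one_iff_mul_comm.2 (hAcentral a ha v hv)
      have h2 : ⁅u, a⁆ = 1 := commutatorElement_eq_one_iff_mul_comm.2 (hAcentral a ha u hu).symm
      exact ⟨by rw [bilin_commutator (by rw [h1]; exact Commute.one_right u), h1, one_mul],
        by rw [commutator_mul_right (by rw [h2]; exact Commute.one_right v), h2, mul_one]⟩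
    let pair : Fin p → W → W → Kq := fun i z w =>
      ⟨⟨⁅(lift z : X), (α ^ (i : ℕ)) (lift w)⁆, hHA _ (lift z).2 _⟩, by
        refine Subtype.ext ?_
        show ⁅(lift z : X), (α ^ (i : ℕ)) (lift w)⁆ ^ q = 1
        rw [← commutator_pow_left (hAcentral _ (hHA _ (lift z).2 _) _ (lift z).2).symm]
        exact commutatorElement_eq_one_iff_mul_comm.2
          (hAcentral _ (hlq z) _ (hαI i _ (lift w).2))⟩
    have hl : ∀ i z z' w, pair i (z * z') w = pair i z w * pair i z' w := by
      intro i z z' w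
      refine Subtype.ext (Subtype.ext ?_)
      show ⁅(lift (z * z') : X), (α ^ (i : ℕ)) (lift w)⁆ =
        ⁅(lift z : X), (α ^ (i : ℕ)) (lift w)⁆ * ⁅(lift z' : X), (α ^ (i : ℕ)) (lift w)⁆
      obtain ⟨a, ha, e⟩ := hladd z z'
      rw [e, (hkill _ _ (mul_mem (lift z).2 (lift z').2) (hαI i _ (lift w).2) a ha).1,
        bilin_commutator (hAcentral _ (hHA _ (lift z').2 _) _ (lift z).2).symm]
      exact hA.comm _ (hHA _ (lift z').2 _) _ (hHA _ (lift z).2 _)
    have hr : ∀ i z w w', pair i z (w * w') = pair i z w * pair i z w' := by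
      intro i z w w'
      refine Subtype.ext (Subtype.ext ?_)
      show ⁅(lift z : X), (α ^ (i : ℕ)) (lift (w * w'))⁆ =
        ⁅(lift z : X), (α ^ (i : ℕ)) (lift w)⁆ * ⁅(lift z : X), (α ^ (i : ℕ)) (lift w')⁆
      obtain ⟨a, ha, e⟩ := hladd w w'
      rw [e, map_mul, map_mul,
        (hkill _ _ (lift z).2 (mul_mem (hαI i _ (lift w).2) (hαI i _ (lift w').2)) _
          ((hA.inv.pow i) a ha)).2,
        commutator_mul_right (hAcentral _ (hHA _ (lift z).2 _) _ (hαI i _ (lift w).2)).symm]
    let β : Fin p → (Additive W →+ Additive W →+ Additive Kq) := fun i =>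
      AddMonoidHom.mk' (fun z => AddMonoidHom.mk' (fun w => Additive.ofMul (pair i z.toMul w.toMul))
        fun w w' => congrArg Additive.ofMul (hr i _ _ _))
        fun z z' => AddMonoidHom.ext fun w => congrArg Additive.ofMul (hl i _ _ _)
    obtain ⟨z, hz0, hz⟩ := exists_isotropic (q := q) (W := Additive W) (K := Additive Kq)
      (fun z => Additive.toMul.injective (Subtype.ext z.toMul.2))
      (fun c => Additive.toMul.injective (Subtype.ext c.toMul.2)) β (by
        refine lt_of_le_of_lt ?_ hbig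
        rw [Fintype.card_fin]
        refine (Nat.pow_le_pow_left ?_ _).trans (Nat.pow_le_pow_right hf
          (le_mul_of_one_le_right (Nat.zero_le _) hf))
        exact (Nat.card_le_card_of_injective (fun c : Additive Kq => c.toMul.1)
          fun a b h => Additive.toMul.injective (Subtype.ext h)).trans hAf)
    set x : X := ((lift z.toMul : H) : X)
    have hxH : x ∈ H := (lift z.toMul).2
    have hp := (Fact.out : p.Prime)
    have horb : ∀ i : ℕ, Commute x ((α ^ i) x) := by
      intro i
      have h := congrArg (fun c : Additive Kq => c.toMul.1.1) (hz ⟨i % p, Nat.mod_lt _ hp.pos⟩)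
      rw [← Nat.mod_add_div i p, pow_add, pow_mul, hα.pow, one_pow, mul_one]
      exact commutatorElement_eq_one_iff_commute.1 h
    set S : Set X := (A : Set X) ∪ Set.range fun i : ℕ => (α ^ i) x
    have hSH : S ⊆ H := by
      rintro s (hs | ⟨i, rfl⟩)
      · exact hAH hs
      · exact hαI i _ hxH
    have hcomm : Subgroup.closure S ≤ Subgroup.centralizer (Subgroup.closure S : Set X) := by
      rw [Subgroup.centralizer_closure, Subgroup.closure_le]
      rintro s hs t ht
      rcases hs with hs | ⟨i, rfl⟩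
      · exact (hAcentral s hs t (hSH ht)).symm
      rcases ht with ht | ⟨j, rfl⟩
      · exact hAcentral t ht _ (hαI i _ hxH)
      rcases le_total i j with h | h
      · obtain ⟨l, rfl⟩ := Nat.exists_eq_add_of_le h
        simp only [pow_add, MulAut.mul_apply]
        exact (((horb l).symm).map (α ^ i))
      · obtain ⟨l, rfl⟩ := Nat.exists_eq_add_of_le h
        simp only [pow_add, MulAut.mul_apply]
        exact ((horb l).map (α ^ j))
    have hxA : x ∈ A := hA.max _
      (hnorm _ (fun a ha => Subgroup.subset_closure (Or.inl ha)) ((Subgroup.closure_le H).2 hSH))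
      (inv_closure α fun s hs => Subgroup.subset_closure (by
        rcases hs with hs | ⟨i, rfl⟩
        · exact Or.inl (hA.inv s hs)
        · exact Or.inr ⟨i + 1, by simp only [pow_succ', MulAut.mul_apply]⟩))
      (fun u hu v hv => hcomm hv u hu)
      (fun a ha => Subgroup.subset_closure (Or.inl ha))
      (Subgroup.subset_closure (Or.inr ⟨0, rfl⟩))
    refine hz0 (Additive.toMul.injective (Subtype.ext ?_))
    rw [← hlift z.toMul]
    exact (QuotientGroup.eq_one_iff _).2 hxA
  have hM : Nat.card (H ⧸ A.subgroupOf H) ≤ (f ^ (2 * p * f)) ^ f := by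
    have h := card_le_pow_of_torsion (G := H ⧸ A.subgroupOf H) (Nat.one_le_pow _ _ hf)
      (Nat.card A) Nat.card_pos ⊤ (fun x _ => hexp x) htors
    rw [Subgroup.card_top] at h
    exact h.trans (Nat.pow_le_pow_right (Nat.one_le_pow _ _ hf) hAf)
  have hH : Nat.card H ≤ f * (f ^ (2 * p * f)) ^ f := by
    rw [Subgroup.card_eq_card_quotient_mul_card_subgroup (A.subgroupOf H), mul_comm,
      Nat.card_congr (Subgroup.subgroupOfEquivOfLe hAH).toEquiv]
    exact Nat.mul_le_mul hAf hM
  let Φ : X →* MulAut H := MulAut.conjNormal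
  have hΦ : Φ.ker ≤ A := fun x hx => hKA fun w hw => by
    have h := congrArg Subtype.val (DFunLike.congr_fun (MonoidHom.mem_ker.1 hx) (⟨w, hw⟩ : H))
    change x * w * x⁻¹ = w at h
    exact (mul_inv_eq_iff_eq_mul.1 h).symm
  calc Nat.card X = Nat.card Φ.ker * Nat.card Φ.range := by
        rw [← Subgroup.index_ker]; exact Φ.ker.card_mul_index.symm
    _ ≤ f * (f * (f ^ (2 * p * f)) ^ f).factorial := Nat.mul_le_mul
        ((Subgroup.card_le_of_le hΦ).trans hAf) ?_
  refine le_trans (Nat.card_le_card_of_injective (fun u : Φ.range => (u.1 : H ≃* H).toEquiv)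
    fun u v h => Subtype.ext (MulEquiv.toEquiv_injective h)) ?_
  rw [Nat.card_perm]
  exact Nat.factorial_le hH

end CfsgLib.Alperin
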