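import Mathlib
import Cfsg.Agent.Lib.Alperin.AbelianBound
import Cfsg.Agent.Lib.Alperin.Nilpotent
import Cfsg.Agent.Lib.PSolvable.Core

/-!
# A bounded term of the derived series is nilpotent
-/

set_option autoImplicit false

namespace CfsgLib.Alperin

/-- The bound for the group induced on an invariant chief factor. -/
def fK (p m : ℕ) : ℕ := fF p (fA p m) * (fF p (fA p m)).factorial

theorem card_irreducible_le {K : Type*} [Group K] [Finite K] [Group.IsSolvable K] {V : Type*}
    [AddCommGroup V] [Finite V] [Nontrivial V] {p m r : ℕ} [Fact p.Prime] [Fact r.Prime]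
    (hVr : ∀ v : V, r • v = 0) (ρ : K →* AddMonoid.End V) (hρ : Function.Injective ρ)
    {α : MulAut K} (hα : Fix α p m) (T : AddMonoid.End V) (hTp : T ^ p = 1)
    (hT : ∀ k, T * ρ k = ρ (α k) * T) (hV : Nat.card {v : V // T v = v} ≤ m)
    (hirr : ∀ U : AddSubgroup V, (∀ k, ∀ u ∈ U, ρ k u ∈ U) → (∀ u ∈ U, T u ∈ U) →
      U = ⊥ ∨ U = ⊤) : Nat.card K ≤ fK p m := by
  classical
  have hr := (Fact.out : r.Prime)
  have hO : ∀ R : Subgroup K, R.Normal → Inv α R → IsPGroup r R → R = ⊥ := by
    intro R hRn hRinv hR
    let U : AddSubgroup V :=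
      { carrier := {v | ∀ x ∈ R, ρ x v = v}
        zero_mem' := fun x _ => map_zero _
        add_mem' := fun {u v} hu hv x hx => by rw [map_add, hu x hx, hv x hx]
        neg_mem' := fun {u} hu x hx => by rw [map_neg, hu x hx] }
    have hUρ : ∀ k, ∀ u ∈ U, ρ k u ∈ U := fun k u hu x hx => by
      have h1 : k⁻¹ * x * k ∈ R := by simpa using hRn.conj_mem x hx k⁻¹
      have h2 : ρ x (ρ k u) = ρ k (ρ (k⁻¹ * x * k) u) := by
        show (ρ x * ρ k) u = (ρ k * ρ (k⁻¹ * x * k)) u
        rw [← map_mul, ← map_mul]
        congr 2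
        group
      rw [h2, hu _ h1]
    have hUT : ∀ u ∈ U, T u ∈ U := fun u hu x hx => by
      obtain ⟨y, hy, rfl⟩ : ∃ y ∈ R, α y = x :=
        ⟨α.symm x, hRinv.mem_iff.1 (by rwa [MulEquiv.apply_symm_apply]), α.apply_symm_apply x⟩
      have h2 := DFunLike.congr_fun (hT y) u
      change T (ρ y u) = ρ (α y) (T u) at h2
      rw [← h2, hu y hy]
    have hUne : U ≠ ⊥ := by
      let _ : MulAction R V :=
        { smul := fun x v => ρ x.1 v
          one_smul := fun v => by
            show ρ 1 v = v
            rw [map_one]; rfl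
          mul_smul := fun x y v => by
            show ρ (x.1 * y.1) v = ρ x.1 (ρ y.1 v)
            rw [map_mul]; rfl }
      have hrV : r ∣ Nat.card V := by
        obtain ⟨v, hv⟩ := exists_ne (0 : V)
        have := Fact.mk hr
        exact (addOrderOf_eq_prime (hVr v) hv) ▸ addOrderOf_dvd_natCard v
      obtain ⟨b, hb, hb0⟩ := hR.exists_fixed_point_of_prime_dvd_card_of_fixed_point V hrV
        (a := 0) (fun x => map_zero (ρ x.1))
      intro h
      have : b ∈ U := fun x hx => hb ⟨x, hx⟩
      rw [h, AddSubgroup.mem_bot] at this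
      exact hb0 this.symm
    refine (Subgroup.eq_bot_iff_forall _).2 fun x hx => hρ ?_
    rw [map_one]
    refine AddMonoidHom.ext fun v => ?_
    have : v ∈ U := by rw [(hirr U hUρ hUT).resolve_left hUne]; exact AddSubgroup.mem_top v
    exact this x hx
  set F := Cfsg.fittingSubgroup K
  have := CfsgLib.Fitting.fittingSubgroup_normal (G := K)
  have hFnil := CfsgLib.Fitting.fittingSubgroup_isNilpotent (G := K)
  have hFinv : Inv α F := by
    intro g hg
    have : F ≤ F.comap α.toMonoidHom := by
      refine sSup_le fun N ⟨hN, hNnil⟩ => ?_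
      rw [← Subgroup.map_le_iff_le_comap]
      exact CfsgLib.Fitting.le_fittingSubgroup (hN.map α.toMonoidHom α.surjective)
        (Group.nilpotent_of_mulEquiv (N.equivMapOfInjective α.toMonoidHom α.injective))
    exact this hg
  have hrF : ¬ r ∣ Nat.card F := by
    intro hdvd
    let P : Sylow r F := default
    have hPn : (P : Subgroup F).Normal := inferInstance
    have hPc := P.characteristic_of_normal hPn
    have h := hO ((P : Subgroup F).map F.subtype) inferInstance ?_ (P.isPGroup'.map _)
    · rw [Subgroup.map_eq_bot_iff_of_injective _ F.subtype_injective] at h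
      exact P.ne_bot_of_dvd_card hdvd h
    · exact (inv_of_char (restr α F hFinv) (P : Subgroup F)).map F.subtype fun _ => rfl
  have hF : Nat.card F ≤ fF p (fA p m) := by
    refine card_le_of_abelian_bound (hα.restr F hFinv) fun A hAinv hAc => ?_
    let _ : CommGroup A := { (inferInstance : Group A) with
      mul_comm := fun u v => Subtype.ext (hAc u.1 u.2 v.1 v.2) }
    refine card_operators_le hVr ?_ (ρ.comp (F.subtype.comp A.subtype))
      (hρ.comp (F.subtype_injective.comp A.subtype_injective))
      ((hα.restr F hFinv).restr A hAinv) T hTp (fun a => hT _) hV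
    exact (hr.coprime_iff_not_dvd.2 fun h => hrF (h.trans (Subgroup.card_subgroup_dvd_card A))).symm
  let Φ : K →* MulAut F := MulAut.conjNormal
  have hΦ : Φ.ker ≤ F := fun x hx => CfsgLib.PSolvable.centralizer_fittingSubgroup_le fun w hw => by
    have h := congrArg Subtype.val (DFunLike.congr_fun (MonoidHom.mem_ker.1 hx) (⟨w, hw⟩ : F))
    change x * w * x⁻¹ = w at h
    exact (mul_inv_eq_iff_eq_mul.1 h).symm
  calc Nat.card K = Nat.card Φ.ker * Nat.card Φ.range := by
        rw [← Subgroup.index_ker]; exact Φ.ker.card_mul_index.symm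
    _ ≤ fF p (fA p m) * (fF p (fA p m)).factorial :=
        Nat.mul_le_mul ((Subgroup.card_le_of_le hΦ).trans hF) ?_
  refine le_trans (Nat.card_le_card_of_injective (fun u : Φ.range => (u.1 : F ≃* F).toEquiv)
    fun u v h => Subtype.ext (MulEquiv.toEquiv_injective h)) ?_
  rw [Nat.card_perm]
  exact Nat.factorial_le hF

universe u

theorem isNilpotent_derivedSeries (p m : ℕ) [Fact p.Prime] : ∀ (n : ℕ) (G : Type u) [Group G]
    [Finite G], Group.IsSolvable G → Nat.card G ≤ n → ∀ α : MulAut G, Fix α p m →
      Group.IsNilpotent (derivedSeries G (fK p m)) := by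
  intro n
  induction n with
  | zero =>
    intro G _ _ _ hn
    exact absurd hn (Nat.not_le.2 Nat.card_pos)
  | succ n ih =>
    intro G _ _ hG hn α hα
    classical
    rcases subsingleton_or_nontrivial G with hs | hnt
    · exact Group.isNilpotent_of_subsingleton
    obtain ⟨V, hVmin⟩ := (Set.toFinite
      {N : Subgroup G | N.Normal ∧ Inv α N ∧ N ≠ ⊥}).exists_minimal
      ⟨⊤, inferInstance, fun g _ => Subgroup.mem_top _, top_ne_bot⟩
    obtain ⟨⟨hVn, hVinv, hVne⟩, hmin⟩ := hVmin
    have hsmall : ∀ N : Subgroup G, N.Normal → Inv α N → N ≤ V → N = ⊥ ∨ N = V := by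
      intro N h1 h2 h3
      by_cases h : N = ⊥
      · exact Or.inl h
      · exact Or.inr (le_antisymm h3 (hmin ⟨h1, h2, h⟩ h3))
    have hVc : ∀ x ∈ V, ∀ y ∈ V, x * y = y * x := by
      rcases hsmall ⁅V, V⁆ inferInstance (hVinv.commutator hVinv) V.commutator_le_self with h | h
      · intro x hx y hy
        exact commutatorElement_eq_one_iff_mul_comm.1
          (Subgroup.mem_bot.1 (h ▸ Subgroup.commutator_mem_commutator hx hy))
      · exfalso
        obtain ⟨l, hl⟩ := hG.solvable
        have : ∀ j, V ≤ derivedSeries G j := by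
          intro j
          induction j with
          | zero => exact le_top
          | succ j ihj =>
            rw [derivedSeries_succ, ← h]
            exact Subgroup.commutator_mono ihj ihj
        exact hVne (le_bot_iff.1 (hl ▸ this l))
    let _ : CommGroup V := { (inferInstance : Group V) with
      mul_comm := fun u v => Subtype.ext (hVc u.1 u.2 v.1 v.2) }
    have : Nontrivial V := (Subgroup.nontrivial_iff_ne_bot V).2 hVne
    obtain ⟨r, hr, hrV⟩ := Nat.exists_prime_and_dvd (Finite.one_lt_card (α := V)).ne'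
    have := Fact.mk hr
    have hexp : ∀ v : V, v ^ r = 1 := by
      let P := (powMonoidHom r : V →* V).ker.map V.subtype
      have hmemP : ∀ g : G, g ∈ P ↔ g ∈ V ∧ g ^ r = 1 := by
        intro g
        constructor
        · rintro ⟨v, hv, rfl⟩
          exact ⟨v.2, congrArg Subtype.val hv⟩
        · rintro ⟨h1, h2⟩
          exact ⟨⟨g, h1⟩, Subtype.ext h2, rfl⟩
      have hPn : P.Normal := ⟨fun g hg x => by
        rw [hmemP] at hg ⊢
        exact ⟨hVn.conj_mem g hg.1 x, by rw [conj_pow, hg.2, mul_one, mul_inv_cancel]⟩⟩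
      have hPi : Inv α P := fun g hg => by
        rw [hmemP] at hg ⊢
        exact ⟨hVinv g hg.1, by rw [← map_pow, hg.2, map_one]⟩
      rcases hsmall P hPn hPi (fun g hg => ((hmemP g).1 hg).1) with h | h
      · exfalso
        obtain ⟨v, hv⟩ := exists_prime_orderOf_dvd_card' r hrV
        have h1 : (v : G) ∈ P := (hmemP _).2 ⟨v.2, congrArg Subtype.val (hv ▸ pow_orderOf_eq_one v)⟩
        rw [h, Subgroup.mem_bot] at h1
        rw [show v = 1 from Subtype.ext h1, orderOf_one] at hv
        exact hr.one_lt.ne hv
      · intro v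
        exact Subtype.ext ((hmemP _).1 (h.symm ▸ v.2)).2
    let φ : G →* (AddMonoid.End (Additive V))ˣ := (conjEnd V).toHomUnits
    let αV : MulAut V := restr α V hVinv
    let τ : (AddMonoid.End (Additive V))ˣ := autEnd.toHomUnits αV
    have hτ : ∀ x, φ (α x) = τ * φ x * τ⁻¹ := fun x => by
      rw [eq_mul_inv_iff_mul_eq]
      refine Units.ext (AddMonoidHom.ext fun a => congrArg Additive.ofMul (Subtype.ext ?_))
      show α x * α a.toMul.1 * (α x)⁻¹ = α (x * a.toMul.1 * x⁻¹)
      rw [map_mul, map_mul, map_inv]
    have : Finite (AddMonoid.End (Additive V)) :=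
      Finite.of_injective (fun f => (f : Additive V → Additive V)) DFunLike.coe_injective
    have hKinv : Inv (MulAut.conj τ) φ.range := by
      rintro _ ⟨x, rfl⟩
      exact ⟨α x, by rw [MulAut.conj_apply, hτ]⟩
    set αK := restr (MulAut.conj τ) φ.range hKinv
    have hαK : Fix αK p m := hα.of_surjective φ.rangeRestrict φ.rangeRestrict_surjective
      fun x => Subtype.ext (hτ x).symm
    have : Group.IsSolvable φ.range := by
      have := hG
      exact Group.isSolvable_of_surjective φ.rangeRestrict_surjective
    have hcard : Nat.card φ.range ≤ fK p m := by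
      refine card_irreducible_le (r := r) (V := Additive V)
        (fun v => Additive.toMul.injective (by rw [toMul_nsmul, hexp, toMul_zero]))
        ((Units.coeHom _).comp φ.range.subtype) (fun u v h => Subtype.ext (Units.ext h)) hαK τ.1
        ?_ ?_ ?_ ?_
      · show (autEnd.toHomUnits αV).1 ^ p = 1
        rw [MonoidHom.coe_toHomUnits, ← map_pow, (hα.restr V hVinv).pow, map_one]
      · intro k
        show τ.1 * k.1.1 = (τ * k.1 * τ⁻¹ : (AddMonoid.End (Additive V))ˣ).1 * τ.1
        rw [Units.val_mul, Units.val_mul, mul_assoc _ _ τ.1, Units.inv_mul, mul_one]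
      · refine le_trans (Nat.card_le_card_of_injective
          (fun z => (⟨z.1.toMul.1, congrArg (fun w : Additive V => w.toMul.1) z.2⟩ :
            {g : G // α g = g})) fun u v huv => ?_) hα.card
        exact Subtype.ext (Additive.toMul.injective (Subtype.ext
          (congrArg (fun w : {g : G // α g = g} => w.1) huv)))
      · intro U hUρ hUT
        let N : Subgroup G := (AddSubgroup.toSubgroup' U).map V.subtype
        have hmemN : ∀ g : G, g ∈ N ↔ ∃ h : g ∈ V, Additive.ofMul (⟨g, h⟩ : V) ∈ U := by
          intro g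
          constructor
          · rintro ⟨v, hv, rfl⟩
            exact ⟨v.2, hv⟩
          · rintro ⟨h1, h2⟩
            exact ⟨⟨g, h1⟩, h2, rfl⟩
        have hNn : N.Normal := ⟨fun g hg x => by
          rw [hmemN] at hg ⊢
          obtain ⟨h1, h2⟩ := hg
          exact ⟨hVn.conj_mem g h1 x, hUρ ⟨φ x, x, rfl⟩ _ h2⟩⟩
        have hNi : Inv α N := fun g hg => by
          rw [hmemN] at hg ⊢
          obtain ⟨h1, h2⟩ := hg
          exact ⟨hVinv g h1, hUT _ h2⟩
        rcases hsmall N hNn hNi (fun g hg => ((hmemN g).1 hg).1) with h | h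
        · left
          refine (AddSubgroup.eq_bot_iff_forall _).2 fun u hu => ?_
          have h1 : (u.toMul : G) ∈ N := (hmemN _).2 ⟨u.toMul.2, hu⟩
          rw [h, Subgroup.mem_bot] at h1
          exact Additive.toMul.injective (Subtype.ext h1)
        · right
          refine (AddSubgroup.eq_top_iff' _).2 fun u => ?_
          obtain ⟨_, h2⟩ := (hmemN u.toMul.1).1 (by rw [h]; exact u.toMul.2)
          exact h2
    set D := derivedSeries G (fK p m)
    have hDker : D ≤ φ.ker := derivedSeries_le_ker hG φ hcard
    set q := QuotientGroup.mk' V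
    have : Group.IsSolvable (G ⧸ V) := by
      have := hG
      exact Group.isSolvable_of_surjective (QuotientGroup.mk'_surjective V)
    have hlt : Nat.card (G ⧸ V) ≤ n := by
      have h1 := Subgroup.card_eq_card_quotient_mul_card_subgroup V
      have h2 : 1 < Nat.card V := Finite.one_lt_card
      have h3 : 0 < Nat.card (G ⧸ V) := Nat.card_pos
      nlinarith
    have hnil := ih (G ⧸ V) this hlt (quot α V hVinv) (hα.quot V hVinv)
    have hmap : D.map q = derivedSeries (G ⧸ V) (fK p m) :=
      map_derivedSeries_eq (QuotientGroup.mk'_surjective V) _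
    have : Group.IsNilpotent (D.map q) := hmap ▸ hnil
    refine Subgroup.isNilpotent_of_ker_le_center (q.subgroupMap D) (fun x hx => ?_)
    rw [Subgroup.mem_center_iff]
    intro y
    have hxV : (x : G) ∈ V := (QuotientGroup.eq_one_iff _).1 (congrArg Subtype.val hx)
    have h := congrArg (fun w : Additive V => w.toMul.1) (DFunLike.congr_fun
      (congrArg Units.val (MonoidHom.mem_ker.1 (hDker y.2))) (Additive.ofMul ⟨x.1, hxV⟩))
    change (y : G) * x * (y : G)⁻¹ = x at h
    exact Subtype.ext (mul_inv_eq_iff_eq_mul.1 h)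

end CfsgLib.Alperin
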