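import Mathlib
import Cfsg.Agent.Lib.Alperin.Chief
import Cfsg.Agent.Lib.Higman.FixedPointFree

/-!
# Alperin's bound on the derived length
-/

set_option autoImplicit false

namespace CfsgLib.Alperin

universe u

set_option maxHeartbeats 1000000 in
theorem exists_derivedSeries_bound (p : ℕ) (hp : p.Prime) (n : ℕ) :
    ∃ l : ℕ, ∀ (G : Type u) [Group G] [Finite G], Group.IsSolvable G → ∀ α : MulAut G,
      orderOf α = p → Nat.card {g : G // α g = g} = p ^ n → derivedSeries G l = ⊥ := by
  have := Fact.mk hp
  set m := p ^ n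
  set L := dlP p m + CfsgLib.Higman.bound p (2 ^ (p - 1) - 1)
  refine ⟨fK p m + L, fun G _ _ hG α hord hfix => ?_⟩
  have hα : Fix α p m := ⟨hord ▸ pow_orderOf_eq_one α, hfix.le⟩
  set D := derivedSeries G (fK p m) with hD
  have hnil : Group.IsNilpotent D :=
    isNilpotent_derivedSeries p m (Nat.card G) G hG le_rfl α hα
  have hDinv : Inv α D := fun g hg =>
    map_derivedSeries_le_derivedSeries α.toMonoidHom _ ⟨g, hg, rfl⟩
  set β := restr α D hDinv
  have hβ : Fix β p m := hα.restr D hDinv
  suffices derivedSeries D L = ⊥ by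
    refine le_bot_iff.1 ((derivedSeries_add_le (le_refl D) L).trans ?_)
    rw [this, Subgroup.map_bot]
  obtain ⟨e⟩ := ((Group.isNilpotent_of_finite_tfae (G := D)).out 0 4).1 hnil
  refine (Subgroup.eq_bot_iff_forall _).2 fun x hx => ?_
  refine e.symm.injective ?_
  rw [map_one]
  funext q P
  have hq : (q : ℕ).Prime := Nat.prime_of_mem_primeFactors q.2
  have := Fact.mk hq
  let π : D →* P := ((Pi.evalMonoidHom (fun P : Sylow (q : ℕ) D => (↑P : Subgroup D)) P).comp
    (Pi.evalMonoidHom (fun q : (Nat.card D).primeFactors => ∀ P : Sylow (q : ℕ) D,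
      (↑P : Subgroup D)) q)).comp e.symm.toMonoidHom
  have hπ : derivedSeries P L = ⊥ := by
    have hPn : (P : Subgroup D).Normal := inferInstance
    have := P.characteristic_of_normal hPn
    have hPinv : Inv β (P : Subgroup D) := inv_of_char β _
    have hγ : Fix (restr β (P : Subgroup D) hPinv) p m := hβ.restr _ hPinv
    by_cases hqp : (q : ℕ) = p
    · have h := derivedSeries_pgroup (show IsPGroup p (P : Subgroup D) from hqp ▸ P.isPGroup') hγ
      exact le_bot_iff.1 (h ▸ derivedSeries_antitone _ (Nat.le_add_right _ _))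
    have hfpf : ∀ g : (P : Subgroup D), restr β (P : Subgroup D) hPinv g = g → g = 1 := by
      intro g hg
      let C : Subgroup G := MonoidHom.eqLocus α.toMonoidHom (MonoidHom.id G)
      have hCg : g.1.1 ∈ C := congrArg (fun w : (P : Subgroup D) => w.1.1) hg
      have h1 : orderOf g.1.1 ∣ p ^ n := by
        rw [← Subgroup.orderOf_mk g.1.1 hCg]
        exact (orderOf_dvd_natCard _).trans (dvd_of_eq hfix)
      obtain ⟨k, hk⟩ := P.isPGroup'.exists_card_eq
      have h2 : orderOf g.1.1 ∣ (q : ℕ) ^ k := by
        rw [Subgroup.orderOf_coe, Subgroup.orderOf_coe]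
        exact hk ▸ orderOf_dvd_natCard g
      have h3 := Nat.dvd_gcd h1 h2
      rw [Nat.Coprime.pow n k ((Nat.coprime_primes hp hq).2 (Ne.symm hqp)), Nat.dvd_one,
        orderOf_eq_one_iff] at h3
      exact Subtype.ext (Subtype.ext h3)
    rcases subsingleton_or_nontrivial (P : Subgroup D) with hs | hnt
    · exact Subsingleton.elim _ _
    have hord' : orderOf (restr β (P : Subgroup D) hPinv) = p := by
      refine orderOf_eq_prime hγ.pow fun h => ?_
      obtain ⟨g, hg⟩ := exists_ne (1 : (P : Subgroup D))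
      exact hg (hfpf g (by rw [h]; rfl))
    have h := CfsgLib.Higman.gam_bound_eq_bot _ hord' hfpf
    exact le_bot_iff.1 ((derivedSeries_antitone _ (Nat.le_add_left _ _)).trans
      ((Subgroup.derived_le_lower_central _).trans h.le))
  have h := map_derivedSeries_le_derivedSeries π L (Subgroup.mem_map_of_mem π hx)
  rw [hπ, Subgroup.mem_bot] at h
  exact h

end CfsgLib.Alperin
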